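import Cfsg.Agent.S0813
import Cfsg.Agent.S0819
import Cfsg.Agent.Known.PSLAutCent
import Cfsg.Agent.Class.PSLSimple

/-! The automorphism groups of `PSL₃(4)` and `PGL₃(4)`. -/

set_option autoImplicit false

namespace Cfsg.Lib.AutL34

open Subgroup Matrix Cfsg.Lib.Class
open scoped commutatorElement

/-- A normal subgroup of `Aut S` between `Inn S` and with derived group `Inn S` has the same
automorphism group as `S`. -/
theorem bijective_conjNormal {S : Type*} [Group S] (hZ : center S = ⊥) (hp : commutator S = ⊤)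
    (I : Subgroup (MulAut S)) [I.Normal] (h1 : ∀ s, MulAut.conj s ∈ I)
    (h2 : ∀ a ∈ I, ∀ b ∈ I, ∃ s, MulAut.conj s = ⁅a, b⁆) :
    Function.Bijective (MulAut.conjNormal (H := I)) := by
  have inj : ∀ {s t : S}, MulAut.conj s = MulAut.conj t → s = t := fun {s t} e => by
    rw [← inv_mul_eq_one, ← mem_bot, ← hZ, mem_center_iff]
    intro g
    have : s * g * s⁻¹ = t * g * t⁻¹ := congrArg (fun f : MulAut S => f g) e
    calc _ = s⁻¹ * (s * g * s⁻¹) * t := by group
      _ = _ := by rw [this]; group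
  have cj : ∀ (a : MulAut S) (s : S), a * MulAut.conj s * a⁻¹ = MulAut.conj (a s) := fun a s => by
    ext g; simp
  let ι : S →* I := (MulAut.conj : S →* MulAut S).codRestrict I h1
  have hι : Function.Injective ι := fun s t e => inj (congrArg Subtype.val e)
  have hr : ι.range = commutator I := by
    refine le_antisymm ?_ (commutator_le.2 fun a _ b _ => ?_)
    · rw [MonoidHom.range_eq_map, ← hp, commutator_def, map_commutator]
      exact commutator_mono le_top le_top
    · obtain ⟨s, e⟩ := h2 a a.2 b b.2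
      exact ⟨s, Subtype.ext e⟩
  refine ⟨(injective_iff_map_eq_one _).2 fun a e => ?_, fun φ => ?_⟩
  · ext s
    have : a * MulAut.conj s * a⁻¹ = MulAut.conj s :=
      congrArg (fun f : MulAut I => (f (ι s) : MulAut S)) e
    exact inj ((cj a s).symm.trans this)
  · have : ι.range.Characteristic := hr ▸ inferInstance
    let e := MonoidHom.ofInjective hι
    let ψ : MulAut S := (e.trans (MulAut.characteristic ι.range φ)).trans e.symm
    have hψ : ∀ s, ι (ψ s) = φ (ι s) := fun s =>
      congrArg Subtype.val (e.apply_symm_apply (MulAut.characteristic ι.range φ (e s)))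
    refine ⟨ψ, MulEquiv.ext fun x => Subtype.ext (MulEquiv.ext fun t => ?_)⟩
    obtain ⟨s, rfl⟩ := ψ.surjective t
    have h3 : x * ι s * x⁻¹ = ι (x.1 s) := Subtype.ext (cj x s)
    have h4 : φ x * ι (ψ s) * (φ x)⁻¹ = ι (ψ (x.1 s)) := by
      rw [hψ, hψ, ← h3, map_mul, map_mul, map_inv]
    have h5 := inj ((cj (φ x) (ψ s)).symm.trans (congrArg Subtype.val h4))
    rw [h5]
    simp

variable {F : Type*} [Field F] [Fintype F]

theorem nonempty_aut_equiv (hn : ¬ IsMulCommutative (ProjectiveSpecialLinearGroup (Fin 3) F)) :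
    Nonempty (MulAut (ProjectiveSpecialLinearGroup (Fin 3) F) ≃*
      MulAut (GL (Fin 3) F ⧸ center (GL (Fin 3) F))) := by
  have := PSL_isSimpleGroup (ι := Fin 3) (F := F) (by simp)
  have := Known.normal_range_innD (n := 3) (F := F) (by omega)
  have h := bijective_conjNormal (S := ProjectiveSpecialLinearGroup (Fin 3) F)
    ((inferInstance : (center _).Normal).eq_bot_or_eq_top.resolve_right fun e =>
      hn ⟨⟨fun a b => mem_center_iff.1 (e ▸ mem_top b) a⟩⟩)
    ((inferInstance : (commutator _).Normal).eq_bot_or_eq_top.resolve_left fun e =>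
      hn ((commutator_eq_bot_iff _).1 e))
    (Known.innD (Fin 3) F).range (fun s => Known.inn_le_range_innD ⟨s, rfl⟩) (by
      rintro _ ⟨a, rfl⟩ _ ⟨b, rfl⟩
      have : Known.innD (Fin 3) F ⁅a, b⁆ ∈ Inn (ProjectiveSpecialLinearGroup (Fin 3) F) := by
        rw [Known.inn_eq_map_innD]
        refine mem_map_of_mem _ ?_
        rw [MonoidHom.mem_ker, map_commutatorElement, commutatorElement_eq_one_iff_mul_comm,
          mul_comm]
      rwa [map_commutatorElement] at this)
  exact ⟨(MulEquiv.ofBijective _ h).trans (MulAut.congr (Known.pglEquivRange (Fin 3) F).symm)⟩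

theorem card_aut (hF : Fintype.card F = 4) :
    Nat.card (MulAut (ProjectiveSpecialLinearGroup (Fin 3) F)) = 241920 := by
  have h1 := Known.card_PGL_mul (ι := Fin 3) (F := F)
  rw [card_GL_field, Nat.card_eq_fintype_card (α := F), hF] at h1
  simp only [Fin.prod_univ_three] at h1
  rw [Agent.S0813.result 2 2 (by omega) hF 3 (by omega) (by omega)]
  norm_num at h1 ⊢
  omega

theorem check : ∀ t s : GF4, ∃ n ∈ [3, 4, 5, 7], ((Agent.S0819.step t s)^[n] (0, 0, 1)).1 = 0 ∧
    ((Agent.S0819.step t s)^[n] (0, 0, 1)).2.1 = 0 := by decide +kernel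

theorem orderOf_ne_six (hF : Fintype.card F = 4) (g : ProjectiveSpecialLinearGroup (Fin 3) F) :
    orderOf g ≠ 6 := by
  obtain ⟨e⟩ := nonempty_ringEquiv_GF4 hF
  rw [← (pslEquiv (Fin 3) e).orderOf_eq]
  obtain ⟨g, hg⟩ := QuotientGroup.mk_surjective (pslEquiv (Fin 3) e g)
  rw [← hg]
  obtain ⟨t, s, h⟩ := Agent.S0819.cayley g.1 g.2
  obtain ⟨n, hn, h1, h2⟩ := check t s
  have h3 : (g : ProjectiveSpecialLinearGroup (Fin 3) GF4) ^ n = 1 := by
    rw [← QuotientGroup.mk_pow, QuotientGroup.eq_one_iff, mem_center_iff]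
    intro k
    have := Agent.S0819.pow_eq (g : Matrix (Fin 3) (Fin 3) GF4) t s h n
    rw [h1, h2, zero_smul, zero_smul, zero_add, zero_add] at this
    apply Subtype.ext
    change k.1 * g.1 ^ n = g.1 ^ n * k.1
    rw [this, Matrix.mul_smul, Matrix.smul_mul, Matrix.mul_one, Matrix.one_mul]
  intro h4
  rw [← orderOf_dvd_iff_pow_eq_one, h4] at h3
  simp only [List.mem_cons, List.not_mem_nil, or_false] at hn
  rcases hn with rfl | rfl | rfl | rfl <;> omega

end Cfsg.Lib.AutL34
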