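import Cfsg.Agent.SporChar.HJStepC

/-! An extraspecial group of order 32 without elementary abelian subgroups of order 8: standard
generators. -/

set_option autoImplicit false

namespace Cfsg.Lib.Spor.HJ

open Subgroup Bulk PK WF Cfsg.Lib.Local Cfsg.Lib.Solv
open scoped commutatorElement

variable {G : Type*} [Group G] {Q : Subgroup G} {z : G}

/-- There is no elementary abelian subgroup of order eight. -/
def NoE8 (Q : Subgroup G) (z : G) : Prop :=
  ∀ x ∈ Q, ∀ y ∈ Q, x * x = 1 → y * y = 1 → x * y = y * x →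
    x ∈ zpowers z ∨ y ∈ zpowers z ∨ x * y ∈ zpowers z

theorem exists_anti (h : PreLX Q z) {x : G} (hx : x ∈ Q) (hz : x ∉ zpowers z) :
    ∃ y ∈ Q, ⁅x, y⁆ = z := by
  by_contra! hn
  refine hz (h.cent fun q hq => ?_)
  rcases h.mem_iff.1 (h.commutator_mem hx hq) with e | e
  · exact (commutatorElement_eq_one_iff_mul_comm.1 e).symm
  · exact absurd e (hn q hq)

theorem sat_of_four (h : PreLX Q z) (hc : Nat.card Q = 32) {a b c d : G} (ha : a ∈ Q)
    (hb : b ∈ Q) (hc' : c ∈ Q) (hd : d ∈ Q) (a2 : a * a = 1) (b2 : b * b = 1) (c2 : c * c = 1)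
    (d2 : d * d = 1) (ab : ⁅a, b⁆ = z) (ac : ⁅a, c⁆ = z) (ad : ⁅a, d⁆ = z) (bc : ⁅b, c⁆ = z)
    (bd : ⁅b, d⁆ = z) (cd : ⁅c, d⁆ = z) [Finite G] :
    ∃ T : Tup G, T.z = z ∧ T.A = a ∧ Sat T.gQ 7 iM rQ ∧ T.sQ = Q := by
  have hz := h.mul_self
  have z3 : z * z * z = z := by rw [hz, one_mul]
  have m1 := mul_mem hd hc'
  have m2 := mul_mem m1 hb
  have hE := mul_mem m2 ha
  have ex : ∀ x ∈ Q, ⁅x, d * c * b * a⁆ = ⁅x, d⁆ * ⁅x, c⁆ * ⁅x, b⁆ * ⁅x, a⁆ := fun x hx => by
    rw [h.comm_mul_right m2 ha hx, h.comm_mul_right m1 hb hx, h.comm_mul_right hd hc' hx]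
  have ba := (h.comm_symm hb ha).trans ab
  have ca := (h.comm_symm hc' ha).trans ac
  have da := (h.comm_symm hd ha).trans ad
  have cb := (h.comm_symm hc' hb).trans bc
  have db := (h.comm_symm hd hb).trans bd
  have dc := (h.comm_symm hd hc').trans cd
  have aE : ⁅a, d * c * b * a⁆ = z := by
    rw [ex a ha, ad, ac, ab, commutatorElement_self, mul_one, z3]
  have bE : ⁅b, d * c * b * a⁆ = z := by
    rw [ex b hb, bd, bc, ba, commutatorElement_self, mul_one, z3]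
  have cE : ⁅c, d * c * b * a⁆ = z := by
    rw [ex c hc', cd, cb, ca, commutatorElement_self, mul_one, z3]
  have dE : ⁅d, d * c * b * a⁆ = z := by
    rw [ex d hd, dc, db, da, commutatorElement_self, one_mul, z3]
  have E2 : d * c * b * a * (d * c * b * a) = 1 := by
    rw [sq_mul h.toSympPair m2 ha, sq_mul h.toSympPair m1 hb, sq_mul h.toSympPair hd hc',
      h.comm_mul_left m1 hb ha, h.comm_mul_left hd hc' ha, h.comm_mul_left hd hc' hb,
      a2, b2, c2, d2, dc, db, cb, da, ca, ba]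
    simp [hz, mul_assoc]
  have r1 : ∀ x ∈ Q, x * x = 1 → z * x * z * x = 1 := fun x hx e => by
    rw [← h.central x hx, mul_assoc x, h.mul_self, mul_one, e]
  have r2 : ∀ {x y : G}, x * x = 1 → y * y = 1 → ⁅x, y⁆ = z → x * y * x * y * z = 1 :=
    fun {x y} hx hy e => by
      rw [commutatorElement_def, inv_eq_of_mul_eq_one_right hx, inv_eq_of_mul_eq_one_right hy] at e
      rw [e, h.mul_self]
  let T : Tup G := ⟨a, b, c, d, d * c * b * a, z, 1, 1, 1, 1⟩
  have hs : Sat T.gQ 7 iM rQ := satQ_of ⟨a2, b2, c2, d2, E2, hz⟩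
    ⟨by
      calc a * b * c * d * (d * c * b * a) = a * (b * (c * (d * d) * c) * b) * a := by group
        _ = 1 := by rw [d2, mul_one, c2, mul_one, b2, mul_one, a2],
      r1 _ ha a2, r2 a2 b2 ab, r2 a2 c2 ac, r2 a2 d2 ad, r2 a2 E2 aE, r1 _ hb b2, r2 b2 c2 bc,
      r2 b2 d2 bd, r2 b2 E2 bE, r1 _ hc' c2, r2 c2 d2 cd, r2 c2 E2 cE, r1 _ hd d2, r2 d2 E2 dE,
      r1 _ hE E2⟩
  refine ⟨T, rfl, rfl, hs, eq_of_le_of_card_ge (sub_le fun L hL => ?_)
    (by rw [card_sQ (embQ hs h.ne_one), hc])⟩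
  fin_cases hL <;> simp only [wv_cons, wv_nil, one_mul]
  exacts [ha, hb, hc', hd, hE, h.mem]

/-- projection onto the centralizer of a hyperbolic pair -/
theorem exists_proj (h : PreLX Q z) {a b x : G} (ha : a ∈ Q) (hb : b ∈ Q) (hx : x ∈ Q)
    (ab : ⁅a, b⁆ = z) : ∃ m ∈ ({1, a, b, a * b} : Set G), ⁅a, x * m⁆ = 1 ∧ ⁅b, x * m⁆ = 1 := by
  have ba := (h.comm_symm hb ha).trans ab
  have hz := h.mul_self
  rcases h.mem_iff.1 (h.commutator_mem ha hx) with e1 | e1 <;>
    rcases h.mem_iff.1 (h.commutator_mem hb hx) with e2 | e2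
  · exact ⟨1, by simp, by rwa [mul_one], by rwa [mul_one]⟩
  · exact ⟨a, by simp, by rw [h.comm_mul_right hx ha ha, e1, commutatorElement_self, mul_one],
      by rw [h.comm_mul_right hx ha hb, e2, ba, hz]⟩
  · exact ⟨b, by simp, by rw [h.comm_mul_right hx hb ha, e1, ab, hz],
      by rw [h.comm_mul_right hx hb hb, e2, commutatorElement_self, mul_one]⟩
  · exact ⟨a * b, by simp, by
      rw [h.comm_mul_right hx (mul_mem ha hb) ha, h.comm_mul_right ha hb ha, e1, ab,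
        commutatorElement_self, one_mul, hz], by
      rw [h.comm_mul_right hx (mul_mem ha hb) hb, h.comm_mul_right ha hb hb, e2, ba,
        commutatorElement_self, mul_one, hz]⟩

theorem exists_out [Finite G] (h : PreLX Q z) (hc : Nat.card Q = 32) (a b c : G) :
    ∃ x ∈ Q, ∀ m ∈ ({1, a, b, c} : Set G), x * m ∉ zpowers z := by
  classical
  by_contra! hn
  have h1 : (Q : Set G) ⊆ ((({1, a, b, c} : Finset G) ×ˢ ({1, z} : Finset G)).image
      fun p => p.2 * p.1⁻¹ : Finset G) := fun x hx => by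
    obtain ⟨m, hm, e⟩ := hn x hx
    refine Finset.mem_coe.2 (Finset.mem_image.2 ⟨(m, x * m), Finset.mem_product.2
      ⟨by simpa using hm, by simpa using h.mem_iff.1 e⟩, by simp⟩)
  have h2 := Set.ncard_le_ncard h1
  rw [Set.ncard_coe_finset, ← Nat.card_coe_set_eq, SetLike.coe_sort_coe, hc] at h2
  have h3 := h2.trans Finset.card_image_le
  rw [Finset.card_product] at h3
  have h4 := Nat.mul_le_mul (Finset.card_le_four (a := 1) (b := a) (c := b) (d := c))
    (Finset.card_le_two (a := 1) (b := z))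
  omega

theorem exists_satQ_of [Finite G] (h : PreLX Q z) (hc : Nat.card Q = 32) (h8 : NoE8 Q z) {a : G}
    (ha : a ∈ Q) (a2 : a * a = 1) (haz : a ∉ zpowers z) :
    ∃ T : Tup G, T.z = z ∧ T.A = a ∧ Sat T.gQ 7 iM rQ ∧ T.sQ = Q := by
  have hz := h.mul_self
  obtain ⟨b, hb, b2, ab⟩ : ∃ b ∈ Q, b * b = 1 ∧ ⁅a, b⁆ = z := by
    obtain ⟨b, hb, ab⟩ := exists_anti h ha haz
    rcases h.mem_iff.1 (h.sq_mem b hb) with e | e
    · exact ⟨b, hb, e, ab⟩
    · exact ⟨a * b, mul_mem ha hb, by rw [sq_mul h.toSympPair ha hb, a2, e, ab, one_mul, hz],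
        by rw [h.comm_mul_right ha hb ha, ab, commutatorElement_self, one_mul]⟩
  have ba := (h.comm_symm hb ha).trans ab
  have hab := mul_mem ha hb
  have mm : ∀ m ∈ ({1, a, b, a * b} : Set G), m ∈ Q := by
    rintro m (rfl | rfl | rfl | rfl)
    exacts [one_mem _, ha, hb, hab]
  have cz : ∀ w ∈ zpowers z, ∀ x ∈ Q, ⁅x, w⁆ = 1 := fun w hw x hx =>
    commutatorElement_eq_one_iff_mul_comm.2 (h.comm_of_mem hw hx)
  have sq : ∀ c ∈ Q, c ∉ zpowers z → ⁅a, c⁆ = 1 → ⁅b, c⁆ = 1 → c * c = z :=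
    fun c hc h1 h2 h3 => (h.mem_iff.1 (h.sq_mem c hc)).resolve_left fun e => by
      rcases h8 a ha c hc a2 e (commutatorElement_eq_one_iff_mul_comm.1 h2) with e1 | e1 | e1
      · exact haz e1
      · exact h1 e1
      · have := cz _ e1 b hb
        rw [h.comm_mul_right ha hc hb, ba, h3, mul_one] at this
        exact h.ne_one this
  obtain ⟨x, hx, hx'⟩ := exists_out h hc a b (a * b)
  obtain ⟨m, hm, ac, bc⟩ := exists_proj h ha hb hx ab
  have h1 := hx' m hm
  have hc1 := mul_mem hx (mm m hm)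
  generalize x * m = c at ac bc h1 hc1
  obtain ⟨y, hy, cy⟩ := exists_anti h hc1 h1
  obtain ⟨n, hn, ad, bd⟩ := exists_proj h ha hb hy ab
  have hd1 := mul_mem hy (mm n hn)
  have ca := (h.comm_symm hc1 ha).trans ac
  have cb := (h.comm_symm hc1 hb).trans bc
  have cd : ⁅c, y * n⁆ = z := by
    rw [h.comm_mul_right hy (mm n hn) hc1, cy]
    rcases hn with rfl | rfl | rfl | rfl
    · simp
    · rw [ca, mul_one]
    · rw [cb, mul_one]
    · rw [h.comm_mul_right ha hb hc1, ca, cb, mul_one, mul_one]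
  generalize y * n = d at ad bd hd1 cd
  have h2 : d ∉ zpowers z := fun e => h.ne_one (cd.symm.trans (cz d e c hc1))
  have s0 : a * b * (a * b) = z := by rw [sq_mul h.toSympPair ha hb, a2, b2, ab, one_mul, one_mul]
  have key : ∀ c ∈ Q, c ∉ zpowers z → ⁅a, c⁆ = 1 → ⁅b, c⁆ = 1 →
      a * b * c * (a * b * c) = 1 ∧ ⁅a, a * b * c⁆ = z ∧ ⁅b, a * b * c⁆ = z :=
    fun c hc h1 h2 h3 => ⟨by
      rw [sq_mul h.toSympPair hab hc, s0, sq c hc h1 h2 h3, h.comm_mul_left ha hb hc, h2, h3, hz,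
        one_mul, one_mul], by
      rw [h.comm_mul_right hab hc ha, h.comm_mul_right ha hb ha, ab, h2, commutatorElement_self,
        one_mul, mul_one], by
      rw [h.comm_mul_right hab hc hb, h.comm_mul_right ha hb hb, ba, h3, commutatorElement_self,
        mul_one, mul_one]⟩
  obtain ⟨k1, k2, k3⟩ := key c hc1 h1 ac bc
  obtain ⟨l1, l2, l3⟩ := key d hd1 h2 ad bd
  refine sat_of_four h hc ha hb (mul_mem hab hc1) (mul_mem hab hd1) a2 b2 k1 l1 ab k2 l2 k3 l3 ?_
  rw [h.comm_mul_left hab hc1 (mul_mem hab hd1), h.comm_mul_left ha hb (mul_mem hab hd1), l2, l3,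
    hz, one_mul, h.comm_mul_right hab hd1 hc1, h.comm_mul_right ha hb hc1, ca, cb, cd, one_mul,
    one_mul]

theorem exists_inv [Finite G] (h : PreLX Q z) (hc : Nat.card Q = 32) :
    ∃ a ∈ Q, a * a = 1 ∧ a ∉ zpowers z := by
  by_contra! hn
  have sq : ∀ x ∈ Q, x ∉ zpowers z → x * x = z := fun x hx h1 =>
    (h.mem_iff.1 (h.sq_mem x hx)).resolve_left fun e => h1 (hn x hx e)
  obtain ⟨a, ha, ha'⟩ := SetLike.not_le_iff_exists.1 h.nab
  obtain ⟨b, hb, ab⟩ := exists_anti h ha ha'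
  obtain ⟨x, hx, hx'⟩ := exists_out h hc a b (a * b)
  obtain ⟨m, hm, ac, bc⟩ := exists_proj h ha hb hx ab
  have h1 := hx' m hm
  have hc1 : x * m ∈ Q := mul_mem hx (by
    rcases hm with rfl | rfl | rfl | rfl
    exacts [one_mem _, ha, hb, mul_mem ha hb])
  generalize x * m = c at ac bc h1 hc1
  have h2 := hn _ (mul_mem ha hc1) (by
    rw [sq_mul h.toSympPair ha hc1, sq a ha ha', sq c hc1 h1, ac, mul_one, h.mul_self])
  have h3 := commutatorElement_eq_one_iff_mul_comm.2 (h.comm_of_mem h2 hb)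
  rw [h.comm_mul_right ha hc1 hb, bc, mul_one, h.comm_symm hb ha, ab] at h3
  exact h.ne_one h3

end Cfsg.Lib.Spor.HJ
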