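import Cfsg.Agent.AutL34.Defs
import Cfsg.Agent.SylT.Basic
import Cfsg.Agent.Trans.TransferTools

/-! An involution centralizer `2^(1+4).S₄`: fusion and transfer. -/

set_option autoImplicit false

namespace Cfsg.Lib.Spor.HJ

open Subgroup Bulk PK WF Cfsg.Lib.Local Cfsg.Lib.Trans Cfsg.Lib.Gold Cfsg.Lib.L34
open scoped commutatorElement

variable {G : Type*} [Group G] {T : Tup G}

theorem exists_root {z g : G} (hz : z * z = 1)
    (hP : ∀ w ∈ C1 z, w * w = 1 → ∃ y ∈ C1 z, y * y = z ∧ y * w = w * y)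
    (hg : g * z * g⁻¹ ∈ C1 z) : ∃ y ∈ C1 z, y * y = g * z * g⁻¹ := by
  rw [mem_C1] at hg
  obtain ⟨y, -, h1, h2⟩ := hP (g⁻¹ * z * g) (mem_C1.2 (by
    calc _ = g⁻¹ * (z * (g * z * g⁻¹)) * g := by group
      _ = _ := by rw [← hg]; group)) (by
    calc _ = g⁻¹ * (z * z) * g := by group
      _ = _ := by rw [hz]; group)
  refine ⟨g * y * g⁻¹, mem_C1.2 ?_, by rw [conj_mul', h1]⟩
  calc _ = g * (y * (g⁻¹ * z * g)) * g⁻¹ := by group
    _ = _ := by rw [h2]; group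

theorem Small.isolated (b : Small T) (hz : orderOf T.z = 2) (hC : T.sN = C1 T.z) {g : G}
    (hg : g * T.z * g⁻¹ ∈ C1 T.z) : g * T.z * g⁻¹ = T.z := by
  have z2 : T.z * T.z = 1 := by rw [← pow_two, ← hz, pow_orderOf_eq_one]
  have key : ∀ g : G, g * T.z * g⁻¹ ∈ C1 T.z → g * T.z * g⁻¹ ≠ T.z →
      g * T.z * g⁻¹ = T.A ∨ g * T.z * g⁻¹ = T.A * T.z := fun g hg hn => by
    obtain ⟨y, hy, e⟩ := exists_root z2 (hC ▸ b.P) hg
    have := b.sq y (hC ▸ hy) (by rw [e, conj_mul', z2]; group)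
    rw [e] at this
    rcases this with e1 | e1 | e1
    · exact absurd (by simpa using e1) (ne_one_of_orderOf_two hz)
    · exact absurd e1 hn
    · exact e1
  by_contra hn
  have h1 := key g⁻¹ (mem_C1.2 (by
    calc _ = g⁻¹ * (T.z * (g * T.z * g⁻¹)) * g := by group
      _ = _ := by rw [← mem_C1.1 hg]; group)) (fun e => hn (by
        conv_lhs => rw [← e]
        group))
  have h2 : ∀ p ∈ T.sN, p * T.A = T.A * p → g * p * g⁻¹ ∈ T.sN := fun p hp e => by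
    rw [hC, mem_C1] at hp ⊢
    have : p * (g⁻¹ * T.z * g⁻¹⁻¹) = g⁻¹ * T.z * g⁻¹⁻¹ * p := by
      rcases h1 with e1 | e1 <;> rw [e1]
      · exact e
      · rw [← mul_assoc, e, mul_assoc, hp, mul_assoc]
    calc _ = g * (p * (g⁻¹ * T.z * g⁻¹⁻¹)) * g⁻¹ := by group
      _ = _ := by rw [this]; group
  obtain ⟨p, hp, p1, p2, q, hq, q1, q2, n1, n2⟩ := b.wit
  have e1 : g * p * g⁻¹ * (g * p * g⁻¹) = g * T.z * g⁻¹ := by rw [conj_mul', p1]
  have e2 : g * q * g⁻¹ * (g * q * g⁻¹) = g * T.z * g⁻¹ := by rw [conj_mul', q1]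
  have e3 : g * p * g⁻¹ * (g * q * g⁻¹) * (g * p * g⁻¹) * (g * q * g⁻¹) =
      g * (p * q * p * q) * g⁻¹ := by group
  have : g * (p * q * p * q) * g⁻¹ = 1 ∨ g * (p * q * p * q) * g⁻¹ = g * T.z * g⁻¹ := by
    rw [← e3]
    rcases key g hg hn with e | e <;> rw [e] at e1 e2 ⊢
    · exact b.sqA _ (h2 p hp p2) e1 _ (h2 q hq q2) e2
    · exact b.sqAz _ (h2 p hp p2) e1 _ (h2 q hq q2) e2
  rcases this with e | e
  · exact n1 (by simpa using e)
  · exact n2 (by simpa using e)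

theorem sub_mono {g : ℕ → G} {W W' : List (List ℕ)} (h : ∀ L ∈ W, L ∈ W') : sub g W ≤ sub g W' :=
  sub_le fun L hL => wv_mem_sub g (h L hL)

theorem sF_sup : T.sF ⊔ T.sF' = T.sT :=
  le_antisymm (sup_le (sub_mono (by decide)) (sub_mono (by decide))) (sub_le fun L hL => by
    fin_cases hL
    exacts [mem_sup_left (wv_mem_sub _ (by decide)), mem_sup_left (wv_mem_sub _ (by decide)),
      mem_sup_left (wv_mem_sub _ (by decide)), mem_sup_left (wv_mem_sub _ (by decide)),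
      mem_sup_right (wv_mem_sub _ (by decide)), mem_sup_right (wv_mem_sub _ (by decide))])

theorem gN_mem_sub {W : List (List ℕ)} (l : ℕ) (h : [l] ∈ W) : T.gN l ∈ sub T.gN W := by
  simpa using wv_mem_sub T.gN h

theorem z_mem_sV : T.z ∈ T.sV := gN_mem_sub 6 (by decide)

theorem sT_le_sS : T.sT ≤ T.sS := sub_mono (by decide)

theorem sS_le_sN : T.sS ≤ T.sN := T.sub_le_sN _

theorem E_mem_sS : T.E ∈ T.sS := gN_mem_sub 5 (by decide)

theorem u_mem_sS : T.u ∈ T.sS := gN_mem_sub 7 (by decide)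

theorem A_mem_sS : T.A ∈ T.sS := gN_mem_sub 1 (by decide)

namespace Big

theorem tt (b : Big T) : TT T.sT T.sF T.sF' T.sV where
  sq₁ := b.sqF
  sq₂ := b.sqF'
  card₁ := b.card.2.2.1
  card₂ := b.card.2.2.2.1
  cardV := b.card.2.2.2.2.1
  inf := le_antisymm (fun x hx => by
    obtain ⟨c, hc, e⟩ := b.inf x hx.1 x hx.2 rfl
    exact e ▸ hc) (le_inf (sub_mono (by decide)) (sub_mono (by decide)))
  sup := sF_sup
  comm := fun x hx y hy => by
    obtain ⟨c, hc, e⟩ := b.comm x hx y hy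
    rwa [e, mul_inv_cancel_right, mul_inv_cancel_right]
  nondeg := fun x hx y hy e => (b.nondeg x hx y hy e).imp (fun ⟨_, hc, e⟩ => e ▸ hc)
    fun ⟨_, hc, e⟩ => e ▸ hc

theorem z_mem (b : Big T) : T.z ∈ T.sT := b.tt.VT z_mem_sV

theorem sQ_le (b : Big T) : T.sQ ≤ T.sS := sub_le fun L hL => by
  obtain ⟨⟨_, h1, e1⟩, ⟨_, h2, e2⟩, _, h3, e3⟩ := b.leS
  rw [← e1] at h1
  rw [← e2] at h2
  rw [← e3] at h3
  fin_cases hL <;> simp only [wv_cons, wv_nil, one_mul]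
  exacts [A_mem_sS, h1, h2, h3, E_mem_sS, sT_le_sS b.z_mem]

theorem le_commutator (b : Big T) : T.sT ≤ commutator G := by
  have k : ∀ {g : G}, (∃ p q : G, p * q = g * q * p) → g ∈ commutator G := fun ⟨p, q, e⟩ => by
    have := commutator_mem_commutator (mem_top p) (mem_top q)
    rwa [commutatorElement_def, e, mul_inv_cancel_right, mul_inv_cancel_right] at this
  obtain ⟨h1, h2, h3, h4, h5, h6⟩ := b.der
  refine sub_le fun L hL => ?_
  fin_cases hL <;> simp only [wv_cons, wv_nil, one_mul]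
  exacts [k h1, k h2, k h3, k h4, k h5, k h6]

variable [Finite G]

theorem cj_E (b : Big T) : cj T.E T.sF = T.sF' :=
  eq_of_le_of_card_ge (cj_le_iff.2 fun x hx => by
    obtain ⟨y, hy, e⟩ := b.swap x hx
    rwa [e, mul_inv_cancel_right]) (by rw [card_cj, b.card.2.2.1, b.card.2.2.2.1])

theorem two (b : Big T) : IsPGroup 2 T.sS := IsPGroup.of_card (n := 8) b.card.2.1

theorem sylC (b : Big T) : IsSylowIn 2 T.sS T.sN := ⟨sS_le_sN, b.two, by
  have := card_mul_relIndex (sS_le_sN (T := T))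
  rw [b.card.1, b.card.2.1] at this
  omega⟩

theorem syl (b : Big T) (h : PreLX T.sQ T.z) (hC : T.sN = C1 T.z) : IsSylowIn 2 T.sS ⊤ :=
  isSylowIn_of_maximal le_top b.two fun P hP h1 _ => (b.sylC.eq_of_le hP h1
    (hC ▸ h.le_cent_of_isPGroup hP (b.sQ_le.trans h1))).le

omit [Finite G] in
theorem conj_mem (b : Big T) (hz : T.z * T.z = 1) (hC : T.sN = C1 T.z) {g : G}
    (hg : g * T.z * g⁻¹ ∈ C1 T.z) : g * T.z * g⁻¹ ∈ T.sT := by
  obtain ⟨y, hy, e⟩ := exists_root hz (hC ▸ b.P) hg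
  obtain ⟨c, hc, e1⟩ := b.sq y (hC ▸ hy) (by rw [e, conj_mul', hz]; group)
  rwa [← e, e1]

theorem not_mem (b : Big T) (h : PreLX T.sQ T.z) (hC : T.sN = C1 T.z) {M : Subgroup G}
    (h1 : T.sT ≤ M) (h2 : M ≤ T.sS) (h3 : Nat.card M = 128) {y : G} (hy : y ∈ T.sS)
    (y2 : y * y = 1 ∨ y * y = T.z)
    (hc : ∀ c ∈ T.sT, (∀ r ∈ T.sS, r * y = y * r → r * c = c * r) → c = 1 ∨ c = T.z)
    (hn : ∀ m ∈ M, m * m = y * y → ∀ c ∈ T.sN, ¬ c * y = m * c) :
    y ∉ commutator G ⊔ pResidual 2 G := fun hyG => by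
  have hz := h.mul_self
  have hS : T.sS ≤ C1 T.z := hC ▸ sS_le_sN
  have hi : (M.subgroupOf T.sS).index = 2 := by
    have := card_mul_relIndex h2
    rw [h3, b.card.2.1] at this
    change M.relIndex _ = 2
    omega
  have k : ∀ x ∈ T.sS, ∀ w ∈ T.sS, x * w ∈ M ↔ (x ∈ M ↔ w ∈ M) := fun x hx w hw =>
    mul_mem_iff_of_index_two hi (a := ⟨x, hx⟩) (b := ⟨w, hw⟩)
  have y4 : y ^ 2 ^ 2 = 1 := by
    rw [show 2 ^ 2 = 2 * 2 from rfl, pow_mul, pow_two, pow_two]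
    rcases y2 with e | e <;> rw [e]
    exacts [one_mul 1, hz]
  obtain ⟨j, -, hj⟩ := (Nat.dvd_prime_pow Nat.prime_two).1 (orderOf_dvd_of_pow_eq_one y4)
  obtain ⟨a, -, a1, a2⟩ := thompson_transfer_subgroup (H := T.sS) (T := M)
    (by simpa using (b.syl h hC).not_dvd) (fun x hx w hw => by
      rw [commutatorElement_def, k _ (mul_mem (mul_mem hx hw) (inv_mem hx)) _ (inv_mem hw),
        k _ (mul_mem hx hw) _ (inv_mem hx), k _ hx _ hw, inv_mem_iff, inv_mem_iff]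
      tauto) (fun x hx => ⟨1, by rw [pow_one, pow_two, k _ hx _ hx]⟩) y ⟨j, hj⟩
    (fun m hm hm1 a ha => by
      obtain ⟨i, -, rfl⟩ := (Nat.dvd_prime_pow Nat.prime_two).1 (hj ▸ hm)
      obtain ⟨i, rfl⟩ := Nat.exists_eq_succ_of_ne_zero (n := i) (by rintro rfl; exact hm1 rfl)
      have : y ^ 2 ^ (i + 1) ∈ zpowers T.z := by
        rw [pow_succ', pow_mul, pow_two]
        exact pow_mem (h.mem_iff.2 y2) _
      rcases h.mem_iff.1 this with e | e <;> rw [Nat.succ_eq_add_one, e] at ha ⊢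
      · simpa using one_mem M
      · simpa using h1 (b.conj_mem hz hC (g := a⁻¹) (by simpa using hS ha)))
    (fun a c ha hc ha' hc' => (k _ ha _ hc).2 (by tauto)) hyG (T.sS ⊓ C1 y)
    (b.two.to_le inf_le_left) fun r hr => mem_C1.1 hr.2
  have c1 : ∀ r ∈ T.sS, r * y = y * r → r * (a * T.z * a⁻¹) = a * T.z * a⁻¹ * r :=
    fun r hr e => by
      have := mem_C1.1 (hS (a2 r ⟨hr, mem_C1.2 e⟩))
      calc _ = a * (a⁻¹ * r * a * T.z) * a⁻¹ := by group
        _ = _ := by rw [this]; group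
  have c2 := b.conj_mem hz hC (g := a) (mem_C1.2 (c1 _ (sT_le_sS b.z_mem)
    (mem_C1.1 (hS hy)).symm).symm)
  rcases hc _ c2 c1 with e | e
  · exact h.ne_one (by simpa using e)
  · refine hn _ a1 ?_ a⁻¹ (inv_mem (hC ▸ mem_C1.2 (mul_inv_eq_iff_eq_mul.1 e))) (by group)
    rw [show a⁻¹ * y * a * (a⁻¹ * y * a) = a⁻¹ * (y * y) * a by group]
    rcases y2 with e1 | e1 <;> rw [e1]
    · group
    · conv_lhs => rw [← e]
      group

theorem inf_eq (b : Big T) (h : PreLX T.sQ T.z) (hC : T.sN = C1 T.z) :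
    T.sS ⊓ (commutator G ⊔ pResidual 2 G) = T.sT := by
  have hT : T.sT ≤ commutator G ⊔ pResidual 2 G := b.le_commutator.trans le_sup_left
  refine le_antisymm (fun x hx => ?_) (le_inf sT_le_sS hT)
  have k : ∀ {y c : G}, c ∈ T.sT → x = y * c → y ∈ commutator G ⊔ pResidual 2 G := fun hc e => by
    simpa [e] using mul_mem (mem_inf.1 hx).2 (inv_mem (hT hc))
  obtain ⟨c, hc, e | e | e | e⟩ := b.cos x hx.1
  · exact e ▸ hc
  · exact absurd (k hc e) (b.not_mem h hC (M := T.sM1) (sub_mono (by decide)) (sub_mono (by decide))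
      b.card.2.2.2.2.2.1 E_mem_sS (Or.inl b.sqs.1) b.centE b.ncE)
  · exact absurd (k hc e) (b.not_mem h hC (M := T.sM2) (sub_mono (by decide)) (sub_mono (by decide))
      b.card.2.2.2.2.2.2 u_mem_sS b.sqs.2.1 b.centU b.ncU)
  · exact absurd (k hc e) (b.not_mem h hC (M := T.sM2) (sub_mono (by decide)) (sub_mono (by decide))
      b.card.2.2.2.2.2.2 (mul_mem u_mem_sS E_mem_sS) (by simpa only [mul_assoc] using b.sqs.2.2)
      (by simpa only [mul_assoc] using b.centG) (by simpa only [mul_assoc] using b.ncG))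

end Big

end Cfsg.Lib.Spor.HJ
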