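import Cfsg.Agent.AutL34.Defs

/-! A permutation model of a group `2^(1+4).S₄` and facts. -/

set_option autoImplicit false
set_option maxRecDepth 100000
set_option linter.unusedSimpArgs false
set_option maxHeartbeats 1000000

namespace Cfsg.Lib.Spor.HJ

open Subgroup Bulk PK WF

noncomputable def tc00_C : SeqCert := ⟨nat_lit 5, nat_lit 9, nat_lit 13, nat_lit 0xb0c0c0b090a0a09070808070606050504040303020201010000, (NT.leaf (nat_lit 0) (nat_lit 0x26f50bbd826b705bdc12f702bdc0ef701bdc2ed706bdc1e9709b4c267605b5812d602b580ed601b581ad6079582eb105ad412b502ad40eb501ad42e3506ad41e150ba482e5405a500e9404a500a9401a501a94097d02e6e059cc1273029cc0e73019cc2dd3069cc1db3059480e52049480a52019481a5209648262e097441631048c40a31038c40631068c41d710b82c2d70058400e10048400a10018401a10095401dea047bc15ef037bc09ef017bc1d4f067bc2d2f0573811ce027380dce0173819ce074382da80b43415ad036b411ad026b405ad066b424ed0761c118c056300d8c02630058c073b0198c0b330156b035ac116b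025ac056b065ac24ab04528154a03528094a01528194a0b2282526093241529044a40929034a40529064a41c89054200d08044200908014201908091a010e70539c0ce70239c04e70639c2c470531810c6023180cc60131818c6071181ca30429414a50329408a5012941c65062942c25052100c840421008840121018840909010630518c0c630218c04630618c2c03051080c42041080842011081842090081421040840821030840421060841c01060001400040000c0002000040007bd01ed207ac0268f079b4264c078ac260a0b7a41dc80969c2d86095942d440749025030b3881cc20b28424810b1802440070800000)), (NT.node (nat_lit 12) (NT.node (nat_lit 6) (NT.node (nat_lit 3) (NT.node (nat_lit 1) (NT.leaf (nat_lit 144) (nat_lit 0x707)) (NT.node (nat_lit 2) (NT.leaf (nat_lit 124) (nat_lit 0x6080607)) (NT.leaf (nat_lit 16448) (nat_lit 0x108010706)))) (NT.node (nat_lit 4) (NT.leaf (nat_lit 16452) (nat_lit 0x308020706)) (NT.node (nat_lit 5) (NT.leaf (nat_lit 16456) (nat_lit 0x208030706)) (NT.leaf (nat_lit 16460) (nat_lit 0x408040706))))) (NT.node (nat_lit 9)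 (NT.node (nat_lit 7) (NT.leaf (nat_lit 16464) (nat_lit 0x508050706)) (NT.node (nat_lit 8) (NT.leaf (nat_lit 148) (nat_lit 0x909)) (NT.leaf (nat_lit 128) (nat_lit 0x60a0609)))) (NT.node (nat_lit 10) (NT.leaf (nat_lit 16468) (nat_lit 0x10a010906)) (NT.node (nat_lit 11) (NT.leaf (nat_lit 16472) (nat_lit 0x20a020906)) (NT.leaf (nat_lit 16476) (nat_lit 0x40a030906)))))) (NT.node (nat_lit 18) (NT.node (nat_lit 15) (NT.node (nat_lit 13) (NT.leaf (nat_lit 16480) (nat_lit 0x30a040906)) (NT.node (nat_lit 14) (NT.leaf (nat_lit 16484) (nat_lit 0x50a050906)) (NT.leaf (nat_lit 152) (nat_lit 0xb0b)))) (NT.node (nat_lit 16) (NT.leaf (nat_lit 132) (nat_lit 0x60c060b)) (NT.node (nat_lit 17) (NT.leaf (nat_lit 16488) (nat_lit 0x10c010b06)) (NT.leaf (nat_lit 16492) (nat_lit 0x20c020b06))))) (NT.node (nat_lit 21) (NT.node (nat_lit 19) (NT.leaf (nat_lit 16496) (nat_lit 0x30c030b06)) (NT.node (nat_lit 20) (NT.leaf (nat_lit 16500) (nat_lit 0x50c040b06))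 (NT.leaf (nat_lit 16504) (nat_lit 0x40c050b06)))) (NT.node (nat_lit 23) (NT.node (nat_lit 22) (NT.leaf (nat_lit 16540) (nat_lit 0x70b070b)) (NT.leaf (nat_lit 136) (nat_lit 0x90709070907))) (NT.node (nat_lit 24) (NT.leaf (nat_lit 140) (nat_lit 0xb090b090b09)) (NT.leaf (nat_lit 156) (nat_lit 0xb070b07)))))))⟩
noncomputable def tc00_U : List (List ℕ) := []
noncomputable def tc00_HL : List ℕ := [1,2,3,4,5,6]
theorem tc00_head : tc00_C.head 13 iN r00 tc00_U tc00_HL 24 5 6 = true := by decide +kernel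
noncomputable def tc00_s0 : List ℕ := [nat_lit 0x4014041d1a0050bc9040cc108101b241033842040649040ca1081017241032042040549040c6108101220620840608100040e1458440061589079781f02052241e5d07c0813890796c1f0204a241e5c07c081189079681f020403c126100c2a1e5907c060f0f0041d040e2b83a040341038aa0e8100b040e2b03a040241038a80e81007040e2983a0401071481d018043801000400c4a4a3c00a170d0380858510142ef20d278360406bc834a00d81018f20d270360405bc8349a0d81014f20d2603604048692c1b018203401038390cde01855c0184906408147006120190204dc018460640812700611c1902045c0184506408100c03128030a86110190183c3001073482c800b8101ad20b2082e04063482c7e0b81016d20b1f02e04053482c7a0b81012163b05c06080b0040ec40a1c82a040a310286e0a81026c40a1c02a0409310286c0a81022c40a1a82a0408050d0150183c280107030083c332c00a1609020044a430142cb2091c82604032c8246e098100ab2091c02604022c8246c0981006b2091a8260401048d013018042401002902062088101aa40819022040629020600881016a408178220405290205c0881012102d0440608080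040e96071581e040a2581c52078102696071501e04092581c50078102296071381e0408038980f0183c1c01072201856068100c88061481a0402a201854068100888061401a0401a20184e06810040c2603406010600400061e1d006153b028900b02050ec0a2302c08133b028840b02048ec0a2202c08113b028800b0204014022c00c2a0a1f02c060f050041c68041201204069a01046048101868041081204059a01044048101468041001204048207c09018201001039680c3803810285a030d80e04099680c3403810245a030c80e04089680c300381020061d01c060f030041c4c020e00a0406930083602810184c020d00a0405930083202810144c020c00a04048107405018200801038f80438018100c3e010d80604028f8043401810083e010c80604018f804300181004021d00c060101004007b,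
 nat_lit 0x150822966ce0142c2cba6700618170a24122bc0142d9e175c85e04036785d6e178100b9e175c05e04026785d6c17810079e175a85e04010baed8a018605d681780c022e008004c1a7151b14050b0b048ee785500a16c60b2a42d0201b182ca70b40805c60b2a02d02013182ca60b40803c60b2942d0200859481680c022c008004530bc00c317a154b85604035e8552a158100b7a154b05604025e8552815810077a154985604010aa65340186055241580c022a0080048185f442cc050b8a03cc06f5180a17b40a2382902036d0288f0a4080cb40a234290202ed0288c0a4080ab40a22c290202451121480c10280081c38feaa00c3156133f04e04035584cf8138100b56133e84e04025584cf6138100756133d04e040109a0102018604cf21380c022600802902475094080da4091d82502032902474094080ba4091cc250202a9024720940809123804a030409002070e040f0d09a0142c220b21145020285a6c226e08c08069b089b023020166c226d08c08049b089ac230200e6c226a08c08021134846030088802000b028ccc2910142e40]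
theorem tc00_ok0 : tc00_C.StepsOK 30 217 := (SeqCert.StepsOK.refl _ 30).step (L := tc00_s0) (by decide +kernel)
theorem tc00_ok : tc00_C.StepsOK (24 + 6) 217 := tc00_ok0
noncomputable def tc00_r0 : List ℕ := [nat_lit 0x59181864b101043d080823a00e003600d003200c000, nat_lit 0x752828a67202080300f003e09202460908244090021, nat_lit 0x953838e0501280873030c4c11584521150450113842, nat_lit 0x701600a340410792a10a5a1988664198065e197063, nat_lit 0xc3505140909982b1484926821c886e21c086c21a884, nat_lit 0xb09d02d1585968519e06762a00a8229f8a7c29e8a5, nat_lit 0xdf60618bf4b0120d12184883248c903230c8e3228c6, nat_lit 0xf12504f16869ae363b98963a78ea03a70e9a3a60e7, nat_lit 0xff6c01a111a887037071ca442b90aa42b10a8429908, nat_lit 0x1117879ec132f8c1322c08b24af12ba4ad92b84ad129, nat_lit 0x15230892380821157c81ec453314ce53294c853194a, nat_lit 0x13184ca0172b40b35888a2d25b716d85b696d65b516b, nat_lit 0x193378d4790924ef3b88ee063a98ec63a18e663918c, nat_lit 0x10143f901b3bc0f55989a6f26bf1af86be9af66bd1ad,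 nat_lit 0x1599d927438d1221d44091047439d0c7421d0a7419ce, nat_lit 0x1f4c41367a0a292154515127c71f1e7c69f187c59ef, nat_lit 0x1335cc16215489579a8aab2484ba12a84b2128849a10, nat_lit 0x17dae22b457509c235cd17368d0233e8cea33c8ce231, nat_lit 0x175a5da825651998bb0b2d48954a54e954254c952a52, nat_lit 0x1657561d99b66ac276d51b569d8a7609d7275e9d6a73, nat_lit 0x17795d24297d99f9db8baf68a5ca96ea5c296ca5aa94, nat_lit 0x1898df23adbec2e2b85e217aae1ab84ae02b82adfab5, nat_lit 0x1a1bebaf9b9e6262d962a58cb65ad94b642d92b63ad6, nat_lit 0x1afb682db1aeb2a2fa67299ebeaafa8be92fa6be8af7]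
theorem tc00_final : tc00_C.final 13 217 (nat_lit 0xffffff) 24 [1,2,3,4,5,6,7,8,9,10,11,12] (tc00_r0) = true := by decide +kernel
theorem tc00 {G : Type*} [Group G] {g : ℕ → G} {H : Subgroup G} (hg : Sat g 13 iN r00)
    (hU : ∀ u ∈ tc00_U, wv g u ∈ H) (hL : ∀ l ∈ tc00_HL, g l ∈ H) :
    IdxLe H (Subgroup.closure {x | ∃ l ∈ ([1,2,3,4,5,6,7,8,9,10,11,12] : List ℕ), g l = x}) 24 :=
  SeqCert.idxLe_of_final hg hU hL tc00_head tc00_ok tc00_final

/-- permutation model -/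
@[reducible] def M00 : PM where
  w := 10
  n := 32
  cs := [647248388559933843523790820379070591051762214071221845171615726532740439528724699672232434083840,
    271659515759879702944235627592599704002649731361010830892642059487414134093307740750785628078090,
    375649904346441803541570047126302499956182360156653338722754032211056221349236782097907476142100,
    146117048392222450170620518545569602288885854311634279861009232098086810784754574874987557109790,
    104540845818522322905008462620289087251427421711639777250534149129876729412414343669820225054760,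
    459250079365288671046809075796917681835622120183681725057887296349116211204329657357693700116530,
    542768534482627984351149173326462987316223148757810727202060564641314970656961337316208080435260,
    647228038092682584766504854881314971517888728551069303196485754196864235576229803798454830479360,
    647228038092682584766504854881314971517888728551069303196485754196864235576229803798454830479360,
    626409510521614587867228110991817417671076857615690548467578155209502274631342650168490695178240,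
    626409510521614587867228110991817417671076857615690548467578155209502274631342650168490695178240,
    542850195210574456112425718768340682893613374439064566475393846997001419508488003613523538196480,
    542850195210574456112425718768340682893613374439064566475393846997001419508488003613523538196480]
  SW := [([[1],[2],[3],[4],[5],[6],[7],[8],[9],[10],[11],[12]],
    [⟨0, [64, 129, 194, 259, 324, 389, 449, 514, 579, 644, 709, 768, 834, 899, 964, 1029, 1094, 1152, 1217, 1283,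
    1348, 1416, 1472, 1537, 1602, 1668, 1738, 1792, 1857, 1922, 1987], [[3, 10, 8, 4], [6]]⟩,
     ⟨1, [705], [[1, 0, 1], [0]]⟩,
     ⟨2, [256, 320, 193], [[1]]⟩,
     ⟨3, [256, 320], []⟩]),
   ([[6],[1],[11,7],[10,11,7,9],[5,11,7,5],[5,10,11,7,9,5],[7],[5]],
    [⟨0, [384, 65, 1668, 1349, 327, 705, 1988, 1925, 1735, 1220, 901, 647, 835, 965, 263, 199, 1793, 1541, 1861,
    1415, 1095, 1605, 583, 1286, 519, 1479, 135, 1153, 1030, 455, 775], [[1, 5, 6, 2, 5, 4], [1, 4, 6, 3, 4]]⟩,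
     ⟨2, [1024, 1729, 321, 256, 193, 1408, 1089], []⟩]),
   ([[6],[1],[11,7],[10,11,7,9],[5,11,7,5],[5,10,11,7,9,5]],
    [⟨0, [384, 65, 1668, 1349, 705, 1988, 1925, 1220, 901, 835, 965, 1541, 1861, 1605, 1285], [[3], [4, 3, 2, 4,
    1]]⟩,
     ⟨2, [256, 321, 193], []⟩]),
   ([[6],[1],[11,7],[10,11,7,9]],
    [⟨0, [384, 65, 705], [[3], [2]]⟩,
     ⟨2, [256, 193, 321], []⟩]),
   ([[6],[1],[5,11,7,5],[5,10,11,7,9,5]],
    [⟨0, [384, 65, 1666, 1347, 705, 1986, 1923, 1218, 899, 963, 834, 1539, 1859, 1603, 1283], []⟩]),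
   ([[6],[1]],
    [⟨0, [384, 65, 705], []⟩]),
   ([[6],[1],[11,7],[10,11,7,9],[5,11,7,5],[5,10,11,7,9,5],[7]],
    [⟨0, [384, 65, 1668, 1349, 705, 1988, 1925, 1220, 901, 835, 965, 1541, 1861, 1605, 1286], [[3], [4, 3, 6, 4,
    1]]⟩,
     ⟨2, [256, 1409, 1089, 1024, 193, 1728, 321], []⟩]),
   ([[6],[1],[11,7],[10,11,7,9],[5,11,7,5],[5,10,11,7,9,5],[5]],
    [⟨0, [384, 65, 1668, 1349, 326, 705, 1988, 1925, 1734, 1220, 901, 646, 835, 965, 262, 198, 1793, 1541, 1861,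
    1414, 1094, 1605, 582, 518, 1285, 1478, 134, 1153, 1030, 454, 774], [[3], [4, 3, 2, 4, 1]]⟩,
     ⟨2, [256, 321, 193], []⟩])]

instance : NeZero M00.n := ⟨by decide⟩

theorem M00_ok : M00.ok = true := by decide +kernel

theorem M00_subs : M00.subsOK = true := by decide +kernel

theorem M00_sat : M00.satB 13 iN r00 = true := by decide +kernel

theorem cardM00_le {G : Type*} [Group G] {g : ℕ → G} (hg : Sat g 13 iN r00) :
    Finite (closure {x | ∃ l ∈ [1, 2, 3, 4, 5, 6, 7, 8, 9, 10, 11, 12], g l = x}) ∧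
      Nat.card (closure {x | ∃ l ∈ [1, 2, 3, 4, 5, 6, 7, 8, 9, 10, 11, 12], g l = x}) ≤ 768 :=
  (tc00 hg (by simp [tc00_U]) fun _ hl => letter_mem g hl).card_le (cardB_le hg)

variable {G : Type*} [Group G] {T : Tup G}

theorem embM00 (h : Sat T.gN 13 iN r00) (hz : T.z ≠ 1) : Emb M00.m T.gN :=
  PM.emb_of_ker M00_ok M00_subs (PM.exists_hom M00_ok M00_subs (PM.sat M00_ok M00_sat) h rfl cardM00_le
    (by decide +kernel)) (v := 20) (K := (.or (.eq [20] [6]) (.or (.eq [1,20] [20,6,1]) (.or (.eq [1,20] [20,2]) (.or (.eq [1,20]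
      [20,6,2]) (.or (.eq [1,20] [20,3]) (.or (.eq [1,20] [20,6,3]) (.or (.eq [1,20] [20,4]) (.or (.eq
      [1,20] [20,6,4]) (.or (.eq [1,20] [20,5]) (.or (.eq [1,20] [20,6,5]) (.or (.eq [2,20] [20,1])
      (.or (.eq [2,20] [20,6,1]) (.or (.eq [2,20] [20,6,2]) (.or (.eq [2,20] [20,3]) (.or (.eq [2,20]
      [20,6,3]) (.or (.eq [2,20] [20,4]) (.or (.eq [2,20] [20,6,4]) (.or (.eq [2,20] [20,5]) (.or (.eq
      [2,20] [20,6,5]) (.or (.eq [3,20] [20,1]) (.or (.eq [3,20] [20,6,1]) (.or (.eq [3,20] [20,2])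
      (.or (.eq [3,20] [20,6,2]) (.or (.eq [3,20] [20,6,3]) (.or (.eq [3,20] [20,4]) (.or (.eq [3,20]
      [20,6,4]) (.or (.eq [3,20] [20,5]) (.or (.eq [3,20] [20,6,5]) (.or (.eq [4,20] [20,1]) (.or (.eq
      [4,20] [20,6,1]) (.or (.eq [4,20] [20,2]) (.or (.eq [4,20] [20,6,2]) (.or (.eq [4,20] [20,3])
      (.or (.eq [4,20] [20,6,3]) (.or (.eq [4,20] [20,6,4]) (.or (.eq [4,20] [20,5]) (.eq [4,20]
      [20,6,5])))))))))))))))))))))))))))))))))))))) rfl (by decide +kernel)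
    (by simpa only [Fm.sem, wv_cons, wv_nil, one_mul, upd_apply, Nat.reduceEqDiff, ↓reduceIte, Tup.gN_1, Tup.gN_2,
    Tup.gN_3, Tup.gN_4, Tup.gN_5, Tup.gN_6, Tup.gN_7, Tup.gN_8, Tup.gN_9, Tup.gN_10, Tup.gN_11,
    Tup.gN_12] using q_ker (embQ (satQ_of_satB h) hz))

theorem M00_P (h : Emb M00.m T.gN) :
    ∀ w ∈ T.sN, w * w = 1 → (∃ y ∈ T.sN, y * y = T.z ∧ y * w = w * y) := by
  have := PM.holds M00_ok M00_subs h (p := (.all 0 26 (.imp (.eq [26,26] []) (.ex 0 21 (.and (.eq [21,21] [6]) (.eq [26,21] [21,26])))))) (by decide +kernel)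
  simp only [Fm.sem, wv_cons, wv_nil, one_mul, upd_apply, Nat.reduceEqDiff, ↓reduceIte, Tup.gN_1, Tup.gN_2,
    Tup.gN_3, Tup.gN_4, Tup.gN_5, Tup.gN_6, Tup.gN_7, Tup.gN_8, Tup.gN_9, Tup.gN_10, Tup.gN_11,
    Tup.gN_12] at this
  exact this

theorem M00_sq (h : Emb M00.m T.gN) :
    ∀ y ∈ T.sN, (y * y) * (y * y) = 1 → (∃ c ∈ T.sT, (y * y) = c) := by
  have := PM.holds M00_ok M00_subs h (p := (.all 0 21 (.bind 27 [21,21] (.imp (.eq [27,27] []) (.ex 2 22 (.eq [27] [22])))))) (by decide +kernel)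
  simp only [Fm.sem, wv_cons, wv_nil, one_mul, upd_apply, Nat.reduceEqDiff, ↓reduceIte, Tup.gN_1, Tup.gN_2,
    Tup.gN_3, Tup.gN_4, Tup.gN_5, Tup.gN_6, Tup.gN_7, Tup.gN_8, Tup.gN_9, Tup.gN_10, Tup.gN_11,
    Tup.gN_12] at this
  exact this

theorem M00_leS (h : Emb M00.m T.gN) :
    (∃ c ∈ T.sS, T.B = c) ∧ (∃ c ∈ T.sS, T.C = c) ∧ (∃ c ∈ T.sS, T.D = c) := by
  have := PM.holds M00_ok M00_subs h (p := (.and (.ex 1 22 (.eq [2] [22])) (.and (.ex 1 22 (.eq [3] [22])) (.ex 1 22 (.eq [4] [22]))))) (by decide +kernel)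
  simp only [Fm.sem, wv_cons, wv_nil, one_mul, upd_apply, Nat.reduceEqDiff, ↓reduceIte, Tup.gN_1, Tup.gN_2,
    Tup.gN_3, Tup.gN_4, Tup.gN_5, Tup.gN_6, Tup.gN_7, Tup.gN_8, Tup.gN_9, Tup.gN_10, Tup.gN_11,
    Tup.gN_12] at this
  exact this

theorem M00_centE (h : Emb M00.m T.gN) :
    ∀ c ∈ T.sT, (∀ r ∈ T.sS, r * T.E = T.E * r → r * c = c * r) → (c = 1 ∨ c = T.z) := by
  have := PM.holds M00_ok M00_subs h (p := (.all 2 22 (.imp (.all 1 24 (.imp (.eq [5,24] [24,5]) (.eq [22,24] [24,22]))) (.or (.eq [22] [])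
      (.eq [22] [6]))))) (by decide +kernel)
  simp only [Fm.sem, wv_cons, wv_nil, one_mul, upd_apply, Nat.reduceEqDiff, ↓reduceIte, Tup.gN_1, Tup.gN_2,
    Tup.gN_3, Tup.gN_4, Tup.gN_5, Tup.gN_6, Tup.gN_7, Tup.gN_8, Tup.gN_9, Tup.gN_10, Tup.gN_11,
    Tup.gN_12] at this
  exact this

theorem M00_centU (h : Emb M00.m T.gN) :
    ∀ c ∈ T.sT, (∀ r ∈ T.sS, r * T.u = T.u * r → r * c = c * r) → (c = 1 ∨ c = T.z) := by
  have := PM.holds M00_ok M00_subs h (p := (.all 2 22 (.imp (.all 1 24 (.imp (.eq [7,24] [24,7]) (.eq [22,24] [24,22]))) (.or (.eq [22] [])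
      (.eq [22] [6]))))) (by decide +kernel)
  simp only [Fm.sem, wv_cons, wv_nil, one_mul, upd_apply, Nat.reduceEqDiff, ↓reduceIte, Tup.gN_1, Tup.gN_2,
    Tup.gN_3, Tup.gN_4, Tup.gN_5, Tup.gN_6, Tup.gN_7, Tup.gN_8, Tup.gN_9, Tup.gN_10, Tup.gN_11,
    Tup.gN_12] at this
  exact this

theorem M00_centG (h : Emb M00.m T.gN) :
    ∀ c ∈ T.sT, (∀ r ∈ T.sS, r * T.u * T.E = T.u * T.E * r → r * c = c * r) → (c = 1 ∨ c = T.z) := by
  have := PM.holds M00_ok M00_subs h (p := (.all 2 22 (.imp (.all 1 24 (.imp (.eq [5,7,24] [24,5,7]) (.eq [22,24] [24,22]))) (.or (.eq [22]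
      []) (.eq [22] [6]))))) (by decide +kernel)
  simp only [Fm.sem, wv_cons, wv_nil, one_mul, upd_apply, Nat.reduceEqDiff, ↓reduceIte, Tup.gN_1, Tup.gN_2,
    Tup.gN_3, Tup.gN_4, Tup.gN_5, Tup.gN_6, Tup.gN_7, Tup.gN_8, Tup.gN_9, Tup.gN_10, Tup.gN_11,
    Tup.gN_12] at this
  exact this

theorem M00_ncE (h : Emb M00.m T.gN) :
    ∀ m ∈ T.sM1, m * m = T.E * T.E → (∀ c ∈ T.sN, ¬ c * T.E = m * c) := by
  have := PM.holds M00_ok M00_subs h (p := (.all 6 25 (.imp (.eq [25,25] [5,5]) (.all 0 22 (.not (.eq [5,22] [22,25])))))) (by decide +kernel)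
  simp only [Fm.sem, wv_cons, wv_nil, one_mul, upd_apply, Nat.reduceEqDiff, ↓reduceIte, Tup.gN_1, Tup.gN_2,
    Tup.gN_3, Tup.gN_4, Tup.gN_5, Tup.gN_6, Tup.gN_7, Tup.gN_8, Tup.gN_9, Tup.gN_10, Tup.gN_11,
    Tup.gN_12] at this
  exact this

theorem M00_ncU (h : Emb M00.m T.gN) :
    ∀ m ∈ T.sM2, m * m = T.u * T.u → (∀ c ∈ T.sN, ¬ c * T.u = m * c) := by
  have := PM.holds M00_ok M00_subs h (p := (.all 7 25 (.imp (.eq [25,25] [7,7]) (.all 0 22 (.not (.eq [7,22] [22,25])))))) (by decide +kernel)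
  simp only [Fm.sem, wv_cons, wv_nil, one_mul, upd_apply, Nat.reduceEqDiff, ↓reduceIte, Tup.gN_1, Tup.gN_2,
    Tup.gN_3, Tup.gN_4, Tup.gN_5, Tup.gN_6, Tup.gN_7, Tup.gN_8, Tup.gN_9, Tup.gN_10, Tup.gN_11,
    Tup.gN_12] at this
  exact this

theorem M00_ncG (h : Emb M00.m T.gN) :
    ∀ m ∈ T.sM2, m * m = T.u * T.E * T.u * T.E → (∀ c ∈ T.sN, ¬ c * T.u * T.E = m * c) := by
  have := PM.holds M00_ok M00_subs h (p := (.all 7 25 (.imp (.eq [25,25] [5,7,5,7]) (.all 0 22 (.not (.eq [5,7,22] [22,25])))))) (by decide +kernel)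
  simp only [Fm.sem, wv_cons, wv_nil, one_mul, upd_apply, Nat.reduceEqDiff, ↓reduceIte, Tup.gN_1, Tup.gN_2,
    Tup.gN_3, Tup.gN_4, Tup.gN_5, Tup.gN_6, Tup.gN_7, Tup.gN_8, Tup.gN_9, Tup.gN_10, Tup.gN_11,
    Tup.gN_12] at this
  exact this

theorem M00_cos (h : Emb M00.m T.gN) :
    ∀ x ∈ T.sS, ∃ c ∈ T.sT, x = c ∨ x = T.E * c ∨ x = T.u * c ∨ x = T.u * T.E * c := by
  have := PM.holds M00_ok M00_subs h (p := (.all 1 20 (.ex 2 22 (.or (.eq [20] [22]) (.or (.eq [20] [22,5]) (.or (.eq [20] [22,7]) (.eq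
      [20] [22,5,7]))))))) (by decide +kernel)
  simp only [Fm.sem, wv_cons, wv_nil, one_mul, upd_apply, Nat.reduceEqDiff, ↓reduceIte, Tup.gN_1, Tup.gN_2,
    Tup.gN_3, Tup.gN_4, Tup.gN_5, Tup.gN_6, Tup.gN_7, Tup.gN_8, Tup.gN_9, Tup.gN_10, Tup.gN_11,
    Tup.gN_12] at this
  exact this

theorem M00_sqF (h : Emb M00.m T.gN) :
    ∀ x ∈ T.sF, x * x = 1 := by
  have := PM.holds M00_ok M00_subs h (p := (.all 3 20 (.eq [20,20] []))) (by decide +kernel)
  simp only [Fm.sem, wv_cons, wv_nil, one_mul, upd_apply, Nat.reduceEqDiff, ↓reduceIte, Tup.gN_1, Tup.gN_2,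
    Tup.gN_3, Tup.gN_4, Tup.gN_5, Tup.gN_6, Tup.gN_7, Tup.gN_8, Tup.gN_9, Tup.gN_10, Tup.gN_11,
    Tup.gN_12] at this
  exact this

theorem M00_sqF' (h : Emb M00.m T.gN) :
    ∀ x ∈ T.sF', x * x = 1 := by
  have := PM.holds M00_ok M00_subs h (p := (.all 4 20 (.eq [20,20] []))) (by decide +kernel)
  simp only [Fm.sem, wv_cons, wv_nil, one_mul, upd_apply, Nat.reduceEqDiff, ↓reduceIte, Tup.gN_1, Tup.gN_2,
    Tup.gN_3, Tup.gN_4, Tup.gN_5, Tup.gN_6, Tup.gN_7, Tup.gN_8, Tup.gN_9, Tup.gN_10, Tup.gN_11,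
    Tup.gN_12] at this
  exact this

theorem M00_inf (h : Emb M00.m T.gN) :
    ∀ x ∈ T.sF, ∀ y ∈ T.sF', x = y → (∃ c ∈ T.sV, x = c) := by
  have := PM.holds M00_ok M00_subs h (p := (.all 3 20 (.all 4 21 (.imp (.eq [20] [21]) (.ex 5 22 (.eq [20] [22])))))) (by decide +kernel)
  simp only [Fm.sem, wv_cons, wv_nil, one_mul, upd_apply, Nat.reduceEqDiff, ↓reduceIte, Tup.gN_1, Tup.gN_2,
    Tup.gN_3, Tup.gN_4, Tup.gN_5, Tup.gN_6, Tup.gN_7, Tup.gN_8, Tup.gN_9, Tup.gN_10, Tup.gN_11,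
    Tup.gN_12] at this
  exact this

theorem M00_comm (h : Emb M00.m T.gN) :
    ∀ x ∈ T.sF, ∀ y ∈ T.sF', ∃ c ∈ T.sV, x * y = c * y * x := by
  have := PM.holds M00_ok M00_subs h (p := (.all 3 20 (.all 4 21 (.ex 5 22 (.eq [21,20] [20,21,22]))))) (by decide +kernel)
  simp only [Fm.sem, wv_cons, wv_nil, one_mul, upd_apply, Nat.reduceEqDiff, ↓reduceIte, Tup.gN_1, Tup.gN_2,
    Tup.gN_3, Tup.gN_4, Tup.gN_5, Tup.gN_6, Tup.gN_7, Tup.gN_8, Tup.gN_9, Tup.gN_10, Tup.gN_11,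
    Tup.gN_12] at this
  exact this

theorem M00_nondeg (h : Emb M00.m T.gN) :
    ∀ x ∈ T.sF, ∀ y ∈ T.sF', x * y = y * x → ((∃ c ∈ T.sV, x = c) ∨ (∃ c ∈ T.sV, y = c)) := by
  have := PM.holds M00_ok M00_subs h (p := (.all 3 20 (.all 4 21 (.imp (.eq [21,20] [20,21]) (.or (.ex 5 22 (.eq [20] [22])) (.ex 5 22 (.eq
      [21] [22]))))))) (by decide +kernel)
  simp only [Fm.sem, wv_cons, wv_nil, one_mul, upd_apply, Nat.reduceEqDiff, ↓reduceIte, Tup.gN_1, Tup.gN_2,
    Tup.gN_3, Tup.gN_4, Tup.gN_5, Tup.gN_6, Tup.gN_7, Tup.gN_8, Tup.gN_9, Tup.gN_10, Tup.gN_11,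
    Tup.gN_12] at this
  exact this

theorem M00_swap (h : Emb M00.m T.gN) :
    ∀ x ∈ T.sF, ∃ y ∈ T.sF', T.E * x = y * T.E := by
  have := PM.holds M00_ok M00_subs h (p := (.all 3 20 (.ex 4 21 (.eq [20,5] [5,21])))) (by decide +kernel)
  simp only [Fm.sem, wv_cons, wv_nil, one_mul, upd_apply, Nat.reduceEqDiff, ↓reduceIte, Tup.gN_1, Tup.gN_2,
    Tup.gN_3, Tup.gN_4, Tup.gN_5, Tup.gN_6, Tup.gN_7, Tup.gN_8, Tup.gN_9, Tup.gN_10, Tup.gN_11,
    Tup.gN_12] at this
  exact this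

theorem M00_sqs (h : Emb M00.m T.gN) :
    T.E * T.E = 1 ∧ (T.u * T.u = 1 ∨ T.u * T.u = T.z) ∧ (T.u * T.E * T.u * T.E = 1 ∨ T.u * T.E * T.u
    * T.E = T.z) := by
  have := PM.holds M00_ok M00_subs h (p := (.and (.eq [5,5] []) (.and (.or (.eq [7,7] []) (.eq [7,7] [6])) (.or (.eq [5,7,5,7] []) (.eq
      [5,7,5,7] [6]))))) (by decide +kernel)
  simp only [Fm.sem, wv_cons, wv_nil, one_mul, upd_apply, Nat.reduceEqDiff, ↓reduceIte, Tup.gN_1, Tup.gN_2,
    Tup.gN_3, Tup.gN_4, Tup.gN_5, Tup.gN_6, Tup.gN_7, Tup.gN_8, Tup.gN_9, Tup.gN_10, Tup.gN_11,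
    Tup.gN_12] at this
  exact this

theorem M00_der (h : Emb M00.m T.gN) :
    T.A * T.B = T.z * T.B * T.A ∧ (T.B * T.D) * (T.u * T.t) = T.A * (T.u * T.t) * (T.B * T.D) ∧ (T.s
    * T.u) * (T.s * T.t) = T.u * T.t * (T.s * T.t) * (T.s * T.u) ∧ (T.u * T.s) * (T.u * T.t) = T.s *
    T.u * T.t * T.s⁻¹ * (T.u * T.t) * (T.u * T.s) ∧ (T.s * T.u) * (T.E * T.s * T.t) = T.E * T.u *
    T.t * T.E * (T.E * T.s * T.t) * (T.s * T.u) ∧ (T.u * T.s) * (T.E * T.u * T.t) = T.E * T.s * T.u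
    * T.t * T.s⁻¹ * T.E * (T.E * T.u * T.t) * (T.u * T.s) := by
  have := PM.holds M00_ok M00_subs h (p := (.and (.bind 27 [1] (.bind 28 [2] (.eq [28,27] [27,28,6]))) (.and (.bind 27 [4,2] (.bind 28
      [11,7] (.eq [28,27] [27,28,1]))) (.and (.bind 27 [7,9] (.bind 28 [11,9] (.eq [28,27]
      [27,28,11,7]))) (.and (.bind 27 [9,7] (.bind 28 [11,7] (.eq [28,27] [27,28,10,11,7,9]))) (.and
      (.bind 27 [7,9] (.bind 28 [11,9,5] (.eq [28,27] [27,28,5,11,7,5]))) (.bind 27 [9,7] (.bind 28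
      [11,7,5] (.eq [28,27] [27,28,5,10,11,7,9,5]))))))))) (by decide +kernel)
  simp only [Fm.sem, wv_cons, wv_nil, one_mul, upd_apply, Nat.reduceEqDiff, ↓reduceIte, Tup.gN_1, Tup.gN_2,
    Tup.gN_3, Tup.gN_4, Tup.gN_5, Tup.gN_6, Tup.gN_7, Tup.gN_8, Tup.gN_9, Tup.gN_10, Tup.gN_11,
    Tup.gN_12] at this
  exact this

theorem big00 (h : Sat T.gN 13 iN r00) (hz : T.z ≠ 1) : Big T :=
  have e := embM00 h hz
  have d := M00_der e
  have c := PM.card_of_emb M00_ok M00_subs e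
  ⟨M00_P e, M00_sq e, M00_leS e, M00_centE e, M00_centU e, M00_centG e, M00_ncE e, M00_ncU e,
    M00_ncG e, M00_cos e, M00_sqF e, M00_sqF' e, M00_inf e, M00_comm e, M00_nondeg e, M00_swap e,
    M00_sqs e,
    ⟨⟨_, _, d.1⟩, ⟨_, _, d.2.1⟩, ⟨_, _, d.2.2.1⟩, ⟨_, _, d.2.2.2.1⟩, ⟨_, _, d.2.2.2.2.1⟩,
      ⟨_, _, d.2.2.2.2.2⟩⟩, ⟨c 0, c 1, c 3, c 4, c 5, c 6, c 7⟩⟩

end Cfsg.Lib.Spor.HJ
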