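import Cfsg.Agent.AutL34.Defs

/-! A permutation model of a group `2^(1+4).S₄` and facts. -/

set_option autoImplicit false
set_option maxRecDepth 100000
set_option linter.unusedSimpArgs false
set_option maxHeartbeats 1000000

namespace Cfsg.Lib.Spor.HJ

open Subgroup Bulk PK WF

noncomputable def tc11_C : SeqCert := ⟨nat_lit 5, nat_lit 9, nat_lit 13, nat_lit 0xb0c0c0b090a0a09070808070606050504040303020201010000, (NT.leaf (nat_lit 0) (nat_lit 0x26f50bbd826b70bb5c16f704bdc0af703bdc06f706bdc1e9709b4c267605b5812d602b580ed601b581ad6079582eb10b8d416b504ad40ab503ad406b506ad41e150ba482e5405a500e9404a500a9401a501a94097d02e6e0b74c1673049cc0a73039cc0673069cc1db3059480e52049480a52019481a5209648262e097441631048c40a31038c40631068c41d710b82c2d70058400e10048400a10018401a10095401dea0753c11ef057bc0def027bc05ef067bc2d2f0573811ce027380dce0173819ce074382da80b43415ad036b411ad026b405ad066b424ed0761c1cec04630158c03630098c01630198c0b330156b035ac116b025ac056b065ac24ab04528154a03528094a01528194a0b2282526093241529044a40929034a40529064a41c89054200d08044200908014201908091a010e70539c0ce70239c04e70639c2c470531810c6023180cc60131818c6071181ca30719410a5052940ca50229404a5062942c25052100c840421008840121018840909010630518c0c630218c04630618c2c03051080c42041080842011081842090081421040840821030840421060841c01060001400040000c0002000040007bd01ed207ac0268f079b4264c078ac260a0b7a41dc80969c2d86095942d440749025030b3881cc20b28424810b1802440070800000)),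 (NT.node (nat_lit 13) (NT.node (nat_lit 6) (NT.node (nat_lit 3) (NT.node (nat_lit 1) (NT.leaf (nat_lit 32912) (nat_lit 0x70607)) (NT.node (nat_lit 2) (NT.leaf (nat_lit 144) (nat_lit 0x60707)) (NT.leaf (nat_lit 16448) (nat_lit 0x108010706)))) (NT.node (nat_lit 4) (NT.leaf (nat_lit 16452) (nat_lit 0x308020706)) (NT.node (nat_lit 5) (NT.leaf (nat_lit 16456) (nat_lit 0x208030706)) (NT.leaf (nat_lit 16460) (nat_lit 0x408040706))))) (NT.node (nat_lit 9) (NT.node (nat_lit 7) (NT.leaf (nat_lit 16464) (nat_lit 0x508050706)) (NT.node (nat_lit 8) (NT.leaf (nat_lit 32916) (nat_lit 0x90609)) (NT.leaf (nat_lit 148) (nat_lit 0x60909)))) (NT.node (nat_lit 11) (NT.node (nat_lit 10) (NT.leaf (nat_lit 16468) (nat_lit 0x10a010906)) (NT.leaf (nat_lit 16472) (nat_lit 0x20a020906))) (NT.node (nat_lit 12) (NT.leaf (nat_lit 16476) (nat_lit 0x40a030906)) (NT.leaf (nat_lit 16480) (nat_lit 0x30a040906)))))) (NT.node (nat_lit 20) (NT.node (nat_lit 16) (NT.node (nat_lit 14) (NT.leaf (nat_lit 16484)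 (nat_lit 0x50a050906)) (NT.node (nat_lit 15) (NT.leaf (nat_lit 32920) (nat_lit 0xb060b)) (NT.leaf (nat_lit 152) (nat_lit 0x60b0b)))) (NT.node (nat_lit 18) (NT.node (nat_lit 17) (NT.leaf (nat_lit 16488) (nat_lit 0x10c010b06)) (NT.leaf (nat_lit 16492) (nat_lit 0x20c020b06))) (NT.node (nat_lit 19) (NT.leaf (nat_lit 16496) (nat_lit 0x30c030b06)) (NT.leaf (nat_lit 16500) (nat_lit 0x50c040b06))))) (NT.node (nat_lit 23) (NT.node (nat_lit 21) (NT.leaf (nat_lit 16504) (nat_lit 0x40c050b06)) (NT.node (nat_lit 22) (NT.leaf (nat_lit 32924) (nat_lit 0x70b07060b)) (NT.leaf (nat_lit 65692) (nat_lit 0x7060b070b)))) (NT.node (nat_lit 25) (NT.node (nat_lit 24) (NT.leaf (nat_lit 136) (nat_lit 0x90709070907)) (NT.leaf (nat_lit 140) (nat_lit 0xb090b090b09))) (NT.node (nat_lit 26) (NT.leaf (nat_lit 49308) (nat_lit 0xb07060b07)) (NT.leaf (nat_lit 16540) (nat_lit 0xb070b0706)))))))⟩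
noncomputable def tc11_U : List (List ℕ) := []
noncomputable def tc11_HL : List ℕ := [1,2,3,4,5,6]
theorem tc11_head : tc11_C.head 13 iN r11 tc11_U tc11_HL 24 5 6 = true := by decide +kernel
noncomputable def tc11_s0 : List ℕ := [nat_lit 0x12410330420406c9040ce10810192410328420405c9040c8108101524103184204048824402040818802038516110890102c1e5904984040ac483cbc0f81029120f2e83e0409c483cb60f81025120f2e03e0408c483cb40f810201e880081e1e590081d040e2b83a040341038aa0e8100b040e2b03a040241038a80e81007040e2983a04010720402008714802000400c4a4a3c00a180d03808585101430f20d278360406bc834a00d81018f20d270360405bc8349a0d81014f20d260360404869e002040692c02038390cde700102c184403128040ab8030920c81028e00c240320409b80308c0c81024e00c238320408b80308a0c81020186f0081e18440081cd20b1f82e0406b482c800b81018d20b1f02e0405b482c7a0b81014d20b1e02e0404859a00204058ec0203b1028720a81028c40a1b82a0409b1028700a81024c40a1b02a0408b10286a0a8102014610081e14340081c0c020f0ccb00285c2408011290c050bac82472098100cb2091b82604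02ac824700981008b2091b0260401ac8246a0981004125800802123400800a408188220406a9020640881018a408180220405a90205e0881014a408170220404841440204040b40203a581c56078102896071481e0409a581c54078102496071401e0408a581c4e07810200e4a0081e0e260081c88061581a04032201852068100a88061501a04022201850068100688061381a04010310c020083098020001878743b0102c0a1f008b0040a9d81448058102876051181604099d81442058102476051101604089d8144005810200a3a0081e0a1f0081c68041201204069a01046048101868041081204059a0104404810146804100120404820cc02040207c02039680c3803810285a030d80e04099680c3403810245a030c80e04089680c300381020062c0081e061d0081c4c020e00a0406930083602810184c020d00a0405930083202810144c020c00a04048109402040107402038f80438018100c3e010d80604028f8043401810083e010c80604018f804300181004021e00802021d008007a,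
 nat_lit 0x2a1047acd9c0285f182cba670081a170a24122bc0142e2ebb52314040ce785d72178100d9e175b85e0402e785d7017810099e175b05e0401e785d6a17810042ece008022eb400800260d3b28d8a0285c5824773c2a8050be305952168100d8c165385a0402e30595016810098c165305a0401e30594a16810042cc5008022ca40080136114c2f0040d0aa64d29a010337a154b85604035e8552a158100b7a154b05604025e8552815810077a154985604010aaf002008aa48020009030be885980a181407980dea3014316814468520406da0511c14810196814460520405da05116148101568144505204048a2cc02040a2240203c1038feaa01034268029204040cd584cfc138100d56133e04e0402d584cfa138100956133d84e0401d584cf4138100426aa0080226790080148123a04a0406d2048ea128101948123984a0405d2048e4128101548123884a04048928c0204091c002038702082684d00a171105908a2810142f36113704604034d844d8118100b36113684604024d844d61181007361135046040108a680200889a402000581466614880a18100501074680143041]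
theorem tc11_ok0 : tc11_C.StepsOK 30 217 := (SeqCert.StepsOK.refl _ 30).step (L := tc11_s0) (by decide +kernel)
theorem tc11_ok : tc11_C.StepsOK (24 + 6) 217 := tc11_ok0
noncomputable def tc11_r0 : List ℕ := [nat_lit 0x59181864b101043d080823a00e003600d003200c000, nat_lit 0x752828a67202080300f003e09202460908244090021, nat_lit 0x953838e0501280873030c4c11584521150450113842, nat_lit 0x701600a340410832a10a5a1988664198065e197063, nat_lit 0xc3505140909982b1484926821c886e21c086c21a884, nat_lit 0xb09d02d158596851a0867629f8a8029f0a7a29e0a5, nat_lit 0xdf60618bf4b0120d12184883248c903230c8e3228c6, nat_lit 0xf12504f16869aed63b98963a78ea03a70e9a3a60e7, nat_lit 0xff6c01a111a887037071ca442b90aa42b10a8429908, nat_lit 0x1117879ec132f8c1322c08b24af12ba4ad92b84ad129, nat_lit 0x152308923808211f7c81ec453314ce53294c853194a, nat_lit 0x13184ca0172b40b35888a2d25b716d85b696d65b516b, nat_lit 0x193378d4790924ef3bb0ee063a18ea63998e463898c, nat_lit 0x10143f901b3bc0f55989a6f26bf1af86be9af66bd1ad, nat_lit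 0x1639d927438d1221d44091047439d0c7421d0a7419ce, nat_lit 0x1f4c41367a0a292154795127c69f1c7c61f167c51ef, nat_lit 0x1335cc16215489579a8aab2484ba12a84b2128849a10, nat_lit 0x187ae22b457509c235cd17368d0233e8cea33c8ce231, nat_lit 0x175a5da825651998bb0b2d48954a54e954254c952a52, nat_lit 0x1657589d99b66ac276d51b569d8275e9d6a75c9d6273, nat_lit 0x17795d24297d99f9db8baf68a5ca96ea5c296ca5aa94, nat_lit 0x1898e1a3adbec2e2b85e217aae12b82adfab80adf2b5, nat_lit 0x1abbebaf9b9e6262d962a58cb65ad94b642d92b63ad6, nat_lit 0x1afb6aadb1aeb2a2fa67299ebea2fa6be8afa4be82f7]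
theorem tc11_final : tc11_C.final 13 217 (nat_lit 0xffffff) 24 [1,2,3,4,5,6,7,8,9,10,11,12] (tc11_r0) = true := by decide +kernel
theorem tc11 {G : Type*} [Group G] {g : ℕ → G} {H : Subgroup G} (hg : Sat g 13 iN r11)
    (hU : ∀ u ∈ tc11_U, wv g u ∈ H) (hL : ∀ l ∈ tc11_HL, g l ∈ H) :
    IdxLe H (Subgroup.closure {x | ∃ l ∈ ([1,2,3,4,5,6,7,8,9,10,11,12] : List ℕ), g l = x}) 24 :=
  SeqCert.idxLe_of_final hg hU hL tc11_head tc11_ok tc11_final

/-- permutation model -/
@[reducible] def M11 : PM where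
  w := 8
  n := 16
  cs := [160091013746179922710827466213804738560,
    32483341298782877561601413025666447360,
    95788793063252571534894527518046421000,
    127897477033126283287710409787787198480,
    53419973958482126215020707799455778840,
    85196996175857864081107256111813644320,
    32234109776990264706482258144276265000,
    148999781502363150606285898844915914800,
    85695615734833219235254113528982816800,
    117513361217896059777578158692513108000,
    95789768550051197723172183137662820400,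
    127691237886488810377849991840445497400,
    106879546132559473426290379847554312200]
  SW := [([[1],[2],[3],[4],[5],[6],[7],[8],[9],[10],[11],[12]],
    [⟨1, [448, 1, 514, 579, 644, 711, 776, 330, 898, 130, 195, 260, 391, 833, 964], [[8, 4, 0], [1, 7, 8, 11]]⟩,
     ⟨0, [320, 769, 641, 705, 577, 512, 897], [[0, 1, 1, 0, 1, 0], [1, 1, 1, 1, 0]]⟩,
     ⟨2, [384, 193, 960, 257, 832], []⟩])]

instance : NeZero M11.n := ⟨by decide⟩

theorem M11_ok : M11.ok = true := by decide +kernel

theorem M11_subs : M11.subsOK = true := by decide +kernel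

theorem M11_sat : M11.satB 13 iN r11 = true := by decide +kernel

theorem cardM11_le {G : Type*} [Group G] {g : ℕ → G} (hg : Sat g 13 iN r11) :
    Finite (closure {x | ∃ l ∈ [1, 2, 3, 4, 5, 6, 7, 8, 9, 10, 11, 12], g l = x}) ∧
      Nat.card (closure {x | ∃ l ∈ [1, 2, 3, 4, 5, 6, 7, 8, 9, 10, 11, 12], g l = x}) ≤ 768 :=
  (tc11 hg (by simp [tc11_U]) fun _ hl => letter_mem g hl).card_le (cardB_le hg)

variable {G : Type*} [Group G] {T : Tup G}

theorem embM11 (h : Sat T.gN 13 iN r11) (hz : T.z ≠ 1) : Emb M11.m T.gN :=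
  PM.emb_of_ker M11_ok M11_subs (PM.exists_hom M11_ok M11_subs (PM.sat M11_ok M11_sat) h rfl cardM11_le
    (by decide +kernel)) (v := 20) (K := (.or (.eq [20] [6]) (.or (.eq [1,20] [20,6,1]) (.or (.eq [1,20] [20,2]) (.or (.eq [1,20]
      [20,6,2]) (.or (.eq [1,20] [20,3]) (.or (.eq [1,20] [20,6,3]) (.or (.eq [1,20] [20,4]) (.or (.eq
      [1,20] [20,6,4]) (.or (.eq [1,20] [20,5]) (.or (.eq [1,20] [20,6,5]) (.or (.eq [2,20] [20,1])
      (.or (.eq [2,20] [20,6,1]) (.or (.eq [2,20] [20,6,2]) (.or (.eq [2,20] [20,3]) (.or (.eq [2,20]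
      [20,6,3]) (.or (.eq [2,20] [20,4]) (.or (.eq [2,20] [20,6,4]) (.or (.eq [2,20] [20,5]) (.or (.eq
      [2,20] [20,6,5]) (.or (.eq [3,20] [20,1]) (.or (.eq [3,20] [20,6,1]) (.or (.eq [3,20] [20,2])
      (.or (.eq [3,20] [20,6,2]) (.or (.eq [3,20] [20,6,3]) (.or (.eq [3,20] [20,4]) (.or (.eq [3,20]
      [20,6,4]) (.or (.eq [3,20] [20,5]) (.or (.eq [3,20] [20,6,5]) (.or (.eq [4,20] [20,1]) (.or (.eq
      [4,20] [20,6,1]) (.or (.eq [4,20] [20,2]) (.or (.eq [4,20] [20,6,2]) (.or (.eq [4,20] [20,3])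
      (.or (.eq [4,20] [20,6,3]) (.or (.eq [4,20] [20,6,4]) (.or (.eq [4,20] [20,5]) (.eq [4,20]
      [20,6,5])))))))))))))))))))))))))))))))))))))) rfl (by decide +kernel)
    (by simpa only [Fm.sem, wv_cons, wv_nil, one_mul, upd_apply, Nat.reduceEqDiff, ↓reduceIte, Tup.gN_1, Tup.gN_2,
    Tup.gN_3, Tup.gN_4, Tup.gN_5, Tup.gN_6, Tup.gN_7, Tup.gN_8, Tup.gN_9, Tup.gN_10, Tup.gN_11,
    Tup.gN_12] using q_ker (embQ (satQ_of_satB h) hz))

theorem M11_P (h : Emb M11.m T.gN) :
    ∀ w ∈ T.sN, w * w = 1 → (∃ y ∈ T.sN, y * y = T.z ∧ y * w = w * y) := by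
  have := PM.holds M11_ok M11_subs h (p := (.all 0 26 (.imp (.eq [26,26] []) (.ex 0 21 (.and (.eq [21,21] [6]) (.eq [26,21] [21,26])))))) (by decide +kernel)
  simp only [Fm.sem, wv_cons, wv_nil, one_mul, upd_apply, Nat.reduceEqDiff, ↓reduceIte, Tup.gN_1, Tup.gN_2,
    Tup.gN_3, Tup.gN_4, Tup.gN_5, Tup.gN_6, Tup.gN_7, Tup.gN_8, Tup.gN_9, Tup.gN_10, Tup.gN_11,
    Tup.gN_12] at this
  exact this

theorem M11_sq (h : Emb M11.m T.gN) :
    ∀ y ∈ T.sN, (y * y) * (y * y) = 1 → ((y * y) = 1 ∨ (y * y) = T.z ∨ (y * y) = T.A ∨ (y * y) = T.A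
    * T.z) := by
  have := PM.holds M11_ok M11_subs h (p := (.all 0 21 (.bind 27 [21,21] (.imp (.eq [27,27] []) (.or (.eq [27] []) (.or (.eq [27] [6]) (.or
      (.eq [27] [1]) (.eq [27] [6,1])))))))) (by decide +kernel)
  simp only [Fm.sem, wv_cons, wv_nil, one_mul, upd_apply, Nat.reduceEqDiff, ↓reduceIte, Tup.gN_1, Tup.gN_2,
    Tup.gN_3, Tup.gN_4, Tup.gN_5, Tup.gN_6, Tup.gN_7, Tup.gN_8, Tup.gN_9, Tup.gN_10, Tup.gN_11,
    Tup.gN_12] at this
  exact this

theorem M11_sqA (h : Emb M11.m T.gN) :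
    ∀ p ∈ T.sN, p * p = T.A → (∀ q ∈ T.sN, q * q = T.A → (p * q * p * q = 1 ∨ p * q * p * q = T.A)) := by
  have := PM.holds M11_ok M11_subs h (p := (.all 0 27 (.imp (.eq [27,27] [1]) (.all 0 28 (.imp (.eq [28,28] [1]) (.or (.eq [28,27,28,27]
      []) (.eq [28,27,28,27] [1]))))))) (by decide +kernel)
  simp only [Fm.sem, wv_cons, wv_nil, one_mul, upd_apply, Nat.reduceEqDiff, ↓reduceIte, Tup.gN_1, Tup.gN_2,
    Tup.gN_3, Tup.gN_4, Tup.gN_5, Tup.gN_6, Tup.gN_7, Tup.gN_8, Tup.gN_9, Tup.gN_10, Tup.gN_11,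
    Tup.gN_12] at this
  exact this

theorem M11_sqAz (h : Emb M11.m T.gN) :
    ∀ p ∈ T.sN, p * p = T.A * T.z → (∀ q ∈ T.sN, q * q = T.A * T.z → (p * q * p * q = 1 ∨ p * q * p
    * q = T.A * T.z)) := by
  have := PM.holds M11_ok M11_subs h (p := (.all 0 27 (.imp (.eq [27,27] [6,1]) (.all 0 28 (.imp (.eq [28,28] [6,1]) (.or (.eq
      [28,27,28,27] []) (.eq [28,27,28,27] [6,1]))))))) (by decide +kernel)
  simp only [Fm.sem, wv_cons, wv_nil, one_mul, upd_apply, Nat.reduceEqDiff, ↓reduceIte, Tup.gN_1, Tup.gN_2,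
    Tup.gN_3, Tup.gN_4, Tup.gN_5, Tup.gN_6, Tup.gN_7, Tup.gN_8, Tup.gN_9, Tup.gN_10, Tup.gN_11,
    Tup.gN_12] at this
  exact this

theorem M11_wit (h : Emb M11.m T.gN) :
    ∃ p ∈ T.sN, p * p = T.z ∧ p * T.A = T.A * p ∧ (∃ q ∈ T.sN, q * q = T.z ∧ q * T.A = T.A * q ∧ ¬ p
    * q * p * q = 1 ∧ ¬ p * q * p * q = T.z) := by
  have := PM.holds M11_ok M11_subs h (p := (.ex 0 27 (.and (.eq [27,27] [6]) (.and (.eq [1,27] [27,1]) (.ex 0 28 (.and (.eq [28,28] [6])
      (.and (.eq [1,28] [28,1]) (.and (.not (.eq [28,27,28,27] [])) (.not (.eq [28,27,28,27]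
      [6])))))))))) (by decide +kernel)
  simp only [Fm.sem, wv_cons, wv_nil, one_mul, upd_apply, Nat.reduceEqDiff, ↓reduceIte, Tup.gN_1, Tup.gN_2,
    Tup.gN_3, Tup.gN_4, Tup.gN_5, Tup.gN_6, Tup.gN_7, Tup.gN_8, Tup.gN_9, Tup.gN_10, Tup.gN_11,
    Tup.gN_12] at this
  exact this

theorem small11 (h : Sat T.gN 13 iN r11) (hz : T.z ≠ 1) : Small T :=
  have e := embM11 h hz
  ⟨M11_P e, M11_sq e, M11_sqA e, M11_sqAz e, M11_wit e,
    PM.card_of_emb M11_ok M11_subs e 0⟩

end Cfsg.Lib.Spor.HJ
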