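import Cfsg.Agent.AutL34.Defs

/-! Sign normalisation for automorphisms inducing a transposition. -/

set_option autoImplicit false
set_option maxRecDepth 100000
set_option linter.unusedSimpArgs false
set_option maxHeartbeats 1000000

namespace Cfsg.Lib.Spor.HJ

open Subgroup Bulk PK WF

variable {G : Type*} [Group G] {T : Tup G}

theorem q_odd_u (h : Emb MQ.m T.gQ) :
    ∀ a ∈ T.sQ, (a = T.A ∨ a = T.A * T.z) → (∀ b ∈ T.sQ, (b = T.C ∨ b = T.C * T.z) → (∀ c ∈ T.sQ, (c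
    = T.B ∨ c = T.B * T.z) → (∀ d ∈ T.sQ, (d = T.D ∨ d = T.D * T.z) → (∀ e ∈ T.sQ, (e = T.E ∨ e =
    T.E * T.z) → (a * b * c * d * e = 1 → (∃ q ∈ T.sQ, q * a = T.A * T.z * q ∧ q * b = T.C * T.z * q
    ∧ q * c = T.B * T.z * q ∧ q * d = T.D * T.z * q ∧ q * e = T.E * T.z * q)))))) := by
  have := PM.holds MQ_ok MQ_subs h (p := (.all 0 21 (.imp (.or (.eq [21] [1]) (.eq [21] [6,1])) (.all 0 22 (.imp (.or (.eq [22] [3]) (.eq
      [22] [6,3])) (.all 0 23 (.imp (.or (.eq [23] [2]) (.eq [23] [6,2])) (.all 0 24 (.imp (.or (.eq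
      [24] [4]) (.eq [24] [6,4])) (.all 0 25 (.imp (.or (.eq [25] [5]) (.eq [25] [6,5])) (.imp (.eq
      [25,24,23,22,21] []) (.ex 0 26 (.and (.eq [21,26] [26,6,1]) (.and (.eq [22,26] [26,6,3]) (.and
      (.eq [23,26] [26,6,2]) (.and (.eq [24,26] [26,6,4]) (.eq [25,26] [26,6,5])))))))))))))))))) (by decide +kernel)
  simp only [Fm.sem, wv_cons, wv_nil, one_mul, upd_apply, Nat.reduceEqDiff, ↓reduceIte, Tup.gQ_1, Tup.gQ_2,
    Tup.gQ_3, Tup.gQ_4, Tup.gQ_5, Tup.gQ_6] at this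
  exact this

theorem q_odd_s (h : Emb MQ.m T.gQ) :
    ∀ a ∈ T.sQ, (a = T.A ∨ a = T.A * T.z) → (∀ b ∈ T.sQ, (b = T.B ∨ b = T.B * T.z) → (∀ c ∈ T.sQ, (c
    = T.D ∨ c = T.D * T.z) → (∀ d ∈ T.sQ, (d = T.C ∨ d = T.C * T.z) → (∀ e ∈ T.sQ, (e = T.E ∨ e =
    T.E * T.z) → (a * b * c * d * e = 1 → (∃ q ∈ T.sQ, q * a = T.A * T.z * q ∧ q * b = T.B * T.z * q
    ∧ q * c = T.D * T.z * q ∧ q * d = T.C * T.z * q ∧ q * e = T.E * T.z * q)))))) := by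
  have := PM.holds MQ_ok MQ_subs h (p := (.all 0 21 (.imp (.or (.eq [21] [1]) (.eq [21] [6,1])) (.all 0 22 (.imp (.or (.eq [22] [2]) (.eq
      [22] [6,2])) (.all 0 23 (.imp (.or (.eq [23] [4]) (.eq [23] [6,4])) (.all 0 24 (.imp (.or (.eq
      [24] [3]) (.eq [24] [6,3])) (.all 0 25 (.imp (.or (.eq [25] [5]) (.eq [25] [6,5])) (.imp (.eq
      [25,24,23,22,21] []) (.ex 0 26 (.and (.eq [21,26] [26,6,1]) (.and (.eq [22,26] [26,6,2]) (.and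
      (.eq [23,26] [26,6,4]) (.and (.eq [24,26] [26,6,3]) (.eq [25,26] [26,6,5])))))))))))))))))) (by decide +kernel)
  simp only [Fm.sem, wv_cons, wv_nil, one_mul, upd_apply, Nat.reduceEqDiff, ↓reduceIte, Tup.gQ_1, Tup.gQ_2,
    Tup.gQ_3, Tup.gQ_4, Tup.gQ_5, Tup.gQ_6] at this
  exact this

theorem q_odd_t (h : Emb MQ.m T.gQ) :
    ∀ a ∈ T.sQ, (a = T.A ∨ a = T.A * T.z) → (∀ b ∈ T.sQ, (b = T.B ∨ b = T.B * T.z) → (∀ c ∈ T.sQ, (c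
    = T.C ∨ c = T.C * T.z) → (∀ d ∈ T.sQ, (d = T.E ∨ d = T.E * T.z) → (∀ e ∈ T.sQ, (e = T.D ∨ e =
    T.D * T.z) → (a * b * c * d * e = 1 → (∃ q ∈ T.sQ, q * a = T.A * T.z * q ∧ q * b = T.B * T.z * q
    ∧ q * c = T.C * T.z * q ∧ q * d = T.E * T.z * q ∧ q * e = T.D * T.z * q)))))) := by
  have := PM.holds MQ_ok MQ_subs h (p := (.all 0 21 (.imp (.or (.eq [21] [1]) (.eq [21] [6,1])) (.all 0 22 (.imp (.or (.eq [22] [2]) (.eq
      [22] [6,2])) (.all 0 23 (.imp (.or (.eq [23] [3]) (.eq [23] [6,3])) (.all 0 24 (.imp (.or (.eq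
      [24] [5]) (.eq [24] [6,5])) (.all 0 25 (.imp (.or (.eq [25] [4]) (.eq [25] [6,4])) (.imp (.eq
      [25,24,23,22,21] []) (.ex 0 26 (.and (.eq [21,26] [26,6,1]) (.and (.eq [22,26] [26,6,2]) (.and
      (.eq [23,26] [26,6,3]) (.and (.eq [24,26] [26,6,5]) (.eq [25,26] [26,6,4])))))))))))))))))) (by decide +kernel)
  simp only [Fm.sem, wv_cons, wv_nil, one_mul, upd_apply, Nat.reduceEqDiff, ↓reduceIte, Tup.gQ_1, Tup.gQ_2,
    Tup.gQ_3, Tup.gQ_4, Tup.gQ_5, Tup.gQ_6] at this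
  exact this

end Cfsg.Lib.Spor.HJ
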